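import Mathlib
import Groth.Agent.Lib.Helper24.FibreDim.Main4944
import Groth.Agent.Lib.Helper24.WeilExt.Chart

/-!
# The reduced induced subscheme structure on a locally closed subset
-/

set_option autoImplicit false
universe u

open CategoryTheory AlgebraicGeometry Limits

namespace Groth.Agent.Lib.Helper24.Orbit

variable {X : Scheme.{u}} (E : Set X) (hE : IsClosed (closure E \ E))

/-- the complement of the boundary -/
def bdryCompl : X.Opens := ⟨(closure E \ E)ᶜ, hE.isOpen_compl⟩

theorem subset_bdryCompl : E ⊆ (bdryCompl E hE : Set X) := fun _ he h => h.2 he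

theorem bdryCompl_inter_closure : (bdryCompl E hE : Set X) ∩ closure E = E := by
  ext z
  constructor
  · rintro ⟨h1, h2⟩
    by_contra h
    exact h1 ⟨h2, h⟩
  · intro h
    exact ⟨subset_bdryCompl E hE h, subset_closure h⟩

/-- `E` as a closed subset of the complement of its boundary -/
def redClosed : TopologicalSpace.Closeds (bdryCompl E hE).toScheme :=
  ⟨(bdryCompl E hE).ι.base ⁻¹' E, by
    have : (bdryCompl E hE).ι.base ⁻¹' E = (bdryCompl E hE).ι.base ⁻¹' closure E := by
      ext z
      constructor
      · intro h; exact subset_closure h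
      · intro h
        have h2 : (bdryCompl E hE).ι.base z ∈ (bdryCompl E hE : Set X) ∩ closure E := ⟨z.2, h⟩
        rwa [bdryCompl_inter_closure] at h2
    rw [this]
    exact isClosed_closure.preimage (bdryCompl E hE).ι.continuous⟩

/-- the reduced induced subscheme on a locally closed subset -/
noncomputable abbrev redSub : Scheme.{u} :=
  (Scheme.IdealSheafData.vanishingIdeal (redClosed E hE)).subscheme

noncomputable abbrev redSubι : redSub E hE ⟶ X :=
  (Scheme.IdealSheafData.vanishingIdeal (redClosed E hE)).subschemeι ≫ (bdryCompl E hE).ι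

instance : IsReduced (redSub E hE) :=
  FibreDim.isReduced_vanishingIdeal_subscheme _

instance : IsImmersion (redSubι E hE) := inferInstance

theorem range_redSubι : Set.range (redSubι E hE).base = E := by
  rw [Scheme.Hom.comp_base, TopCat.coe_comp, Set.range_comp,
    (Scheme.IdealSheafData.vanishingIdeal (redClosed E hE)).range_subschemeι,
    Scheme.IdealSheafData.coe_support_vanishingIdeal]
  change (bdryCompl E hE).ι.base '' ((bdryCompl E hE).ι.base ⁻¹' E) = E
  rw [Set.image_preimage_eq_inter_range, Scheme.Opens.range_ι]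
  exact Set.inter_eq_left.2 (subset_bdryCompl E hE)

/-- a morphism from a reduced scheme with image in `E` factors through the reduced subscheme -/
theorem exists_lift_redSub {T : Scheme.{u}} [IsReduced T] (g : T ⟶ X)
    (hg : Set.range g.base ⊆ E) : ∃ g' : T ⟶ redSub E hE, g' ≫ redSubι E hE = g := by
  have hgO : Set.range g.base ⊆ Set.range (bdryCompl E hE).ι.base := by
    rw [Scheme.Opens.range_ι]
    exact hg.trans (subset_bdryCompl E hE)
  let g₁ : T ⟶ (bdryCompl E hE).toScheme := IsOpenImmersion.lift (bdryCompl E hE).ι g hgO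
  have hg₁ : g₁ ≫ (bdryCompl E hE).ι = g := IsOpenImmersion.lift_fac _ _ _
  have hker : (Scheme.IdealSheafData.vanishingIdeal (redClosed E hE)).subschemeι.ker ≤ g₁.ker := by
    rw [Scheme.IdealSheafData.ker_subschemeι]
    unfold Scheme.Hom.ker
    rw [Scheme.IdealSheafData.le_ofIdeals_iff]
    intro U s hs
    rw [Scheme.IdealSheafData.vanishingIdeal_ideal] at hs
    rw [RingHom.mem_ker, ← basicOpen_eq_bot_iff, ← Scheme.preimage_basicOpen]
    ext t
    simp only [TopologicalSpace.Opens.coe_bot, Set.mem_empty_iff_false, iff_false]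
    intro ht
    have ht' : g₁.base t ∈ (bdryCompl E hE).toScheme.basicOpen s := ht
    have htU : g₁.base t ∈ U.1 := (bdryCompl E hE).toScheme.basicOpen_le s ht'
    rw [WeilExt.mem_basicOpen_iff_notMem_primeIdealOf U.2 _ htU] at ht'
    apply ht'
    rw [PrimeSpectrum.mem_vanishingIdeal] at hs
    apply hs
    change U.2.fromSpec.base (U.2.primeIdealOf ⟨g₁.base t, htU⟩) ∈ (redClosed E hE : Set _)
    rw [U.2.fromSpec_primeIdealOf]
    change (bdryCompl E hE).ι.base (g₁.base t) ∈ E
    rw [← Scheme.Hom.comp_apply, hg₁]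
    exact hg ⟨t, rfl⟩
  refine ⟨IsClosedImmersion.lift _ g₁ hker, ?_⟩
  rw [← Category.assoc, IsClosedImmersion.lift_fac, hg₁]

/-- a lift of an immersion with the same image to a reduced immersed subscheme is an
isomorphism -/
theorem isIso_of_lift {W R : Scheme.{u}} (h : W ⟶ R) (ρ : R ⟶ X) [IsImmersion ρ] [IsReduced R]
    (hj : IsImmersion (h ≫ ρ)) (hr : Set.range (h ≫ ρ).base = Set.range ρ.base) : IsIso h := by
  haveI : IsImmersion h := IsImmersion.of_comp h ρ
  haveI : Surjective h := by
    refine ⟨fun r => ?_⟩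
    have : ρ.base r ∈ Set.range (h ≫ ρ).base := by rw [hr]; exact ⟨r, rfl⟩
    obtain ⟨w, hw⟩ := this
    refine ⟨w, ?_⟩
    apply ρ.isEmbedding.injective
    rw [← hw, Scheme.Hom.comp_apply]
  haveI : IsClosedImmersion h :=
    IsClosedImmersion.of_isPreimmersion h (by
      rw [Set.range_eq_univ.2 h.surjective]; exact isClosed_univ)
  exact isIso_of_isClosedImmersion_of_surjective h

/-- two reduced immersed subschemes with the same image are isomorphic -/
theorem exists_iso_of_range_eq {O Z : Scheme.{u}} (i : O ⟶ X) (j : Z ⟶ X) [IsImmersion i]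
    [IsImmersion j] [IsReduced O] [IsReduced Z] (h : Set.range i.base = Set.range j.base) :
    ∃ e : O ≅ Z, e.hom ≫ j = i := by
  have hlc : IsLocallyClosed (Set.range j.base) := j.isLocallyClosed_range
  have hE : IsClosed (closure (Set.range j.base) \ Set.range j.base) :=
    isOpen_compl_iff.1 hlc.isOpen_coborder
  obtain ⟨j', hj'⟩ := exists_lift_redSub _ hE j le_rfl
  obtain ⟨i', hi'⟩ := exists_lift_redSub _ hE i h.le
  haveI : IsIso j' := isIso_of_lift j' (redSubι _ hE) (by rw [hj']; infer_instance)
    (by rw [hj', range_redSubι])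
  haveI : IsIso i' := isIso_of_lift i' (redSubι _ hE) (by rw [hi']; infer_instance)
    (by rw [hi', range_redSubι, h])
  refine ⟨asIso i' ≪≫ (asIso j').symm, ?_⟩
  simp only [Iso.trans_hom, asIso_hom, Iso.symm_hom, asIso_inv, Category.assoc]
  have h1 : inv j' ≫ j = redSubι _ hE := by
    rw [IsIso.inv_comp_eq]; exact hj'.symm
  rw [h1, hi']

end Groth.Agent.Lib.Helper24.Orbit
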