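import Mathlib
import Groth.Agent.Lib.Helper24.FibreDim.Main4944
import Groth.Agent.S0414

/-!
# The image of a morphism of finite type contains a nonempty open subset of its closure
-/

set_option autoImplicit false
universe u

open CategoryTheory AlgebraicGeometry Limits

namespace Groth.Agent.Lib.Helper24.Orbit

theorem exists_open_inter_closure_subset_range {G X : Scheme.{u}} (μ : G ⟶ X)
    [LocallyOfFiniteType μ] [QuasiCompact μ] [Nonempty G] :
    ∃ O : X.Opens, ((O : Set X) ∩ closure (Set.range μ.base)).Nonempty ∧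
      (O : Set X) ∩ closure (Set.range μ.base) ⊆ Set.range μ.base := by
  let C : TopologicalSpace.Closeds X := ⟨closure (Set.range μ.base), isClosed_closure⟩
  let I := Scheme.IdealSheafData.vanishingIdeal C
  let ι : I.subscheme ⟶ X := I.subschemeι
  have hr : Set.range ι.base = closure (Set.range μ.base) :=
    I.range_subschemeι.trans (Scheme.IdealSheafData.coe_support_vanishingIdeal C)
  haveI : IsReduced I.subscheme := FibreDim.isReduced_vanishingIdeal_subscheme C
  let μZ : pullback μ ι ⟶ I.subscheme := pullback.snd μ ι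
  obtain ⟨U, hUd, hUflat, hUfp⟩ := Groth.Agent.S0414.result μZ
  haveI := hUflat
  haveI := hUfp
  haveI : UniversallyOpen (μZ ∣_ U) := UniversallyOpen.of_flat _
  -- the open subset `V = range μZ ∩ U` of `Z`
  have hVopen : IsOpen (Set.range μZ.base ∩ (U : Set I.subscheme)) := by
    have h1 : Set.range μZ.base ∩ (U : Set I.subscheme) =
        U.ι.base '' Set.range (μZ ∣_ U).base := by
      rw [← Set.range_comp, ← TopCat.coe_comp, ← Scheme.Hom.comp_base, morphismRestrict_ι,
        Scheme.Hom.comp_base, TopCat.coe_comp, Set.range_comp, Scheme.Opens.range_ι]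
      ext z
      constructor
      · rintro ⟨⟨p, rfl⟩, hz⟩
        exact ⟨p, hz, rfl⟩
      · rintro ⟨p, hp, rfl⟩
        exact ⟨⟨p, rfl⟩, hp⟩
    rw [h1]
    exact U.ι.isOpenMap _ (μZ ∣_ U).isOpenMap.isOpen_range
  have hrμZ : Set.range μZ.base = ι.base ⁻¹' Set.range μ.base :=
    Scheme.Pullback.range_snd μ ι
  obtain ⟨O, hO, hOV⟩ := ι.isEmbedding.isInducing.isOpen_iff.1 hVopen
  refine ⟨⟨O, hO⟩, ?_, ?_⟩
  · -- nonempty
    obtain ⟨g⟩ := (inferInstance : Nonempty G)
    have hUne : (U : Set I.subscheme).Nonempty := by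
      have : μ.base g ∈ Set.range ι.base := by rw [hr]; exact subset_closure ⟨g, rfl⟩
      obtain ⟨z, hz⟩ := this
      exact hUd.nonempty_iff.2 ⟨z⟩
    -- `ι⁻¹ (range μ)` is dense in `Z`
    have hdense : Dense (ι.base ⁻¹' Set.range μ.base) := by
      intro z
      rw [ι.isEmbedding.isInducing.closure_eq_preimage_closure_image,
        Set.image_preimage_eq_inter_range]
      have h2 : Set.range μ.base ∩ Set.range ι.base = Set.range μ.base := by
        rw [hr]
        exact Set.inter_eq_left.2 subset_closure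
      rw [h2, ← hr]
      exact ⟨z, rfl⟩
    obtain ⟨z, hzU, hz⟩ := hdense.inter_open_nonempty U U.2 hUne
    refine ⟨ι.base z, ?_, ?_⟩
    · have : z ∈ ι.base ⁻¹' O := by
        rw [hOV, hrμZ]
        exact ⟨hz, hzU⟩
      exact this
    · rw [← hr]; exact ⟨z, rfl⟩
  · rintro x ⟨hxO, hxC⟩
    rw [← hr] at hxC
    obtain ⟨z, rfl⟩ := hxC
    have : z ∈ ι.base ⁻¹' O := hxO
    rw [hOV, hrμZ] at this
    exact this.1

end Groth.Agent.Lib.Helper24.Orbit
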