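import Mathlib
import Groth.Prelude.Def_AlgGrp
import Groth.Agent.Lib.Helper24.Homog.EquivFlat

/-!
# Stable subsets for a group action and orbits of rational points (topological part)
-/

set_option autoImplicit false
universe u

open CategoryTheory MonoidalCategory CartesianMonoidalCategory MonObj AlgebraicGeometry Limits

namespace Groth.Agent.Lib.Helper24.Orbit

open Groth.Agent.Lib.Helper4 Groth.Agent.Lib.Helper4.ActShear Groth.Agent.Lib.Helper4.ActShear2
  Groth.Agent.Lib.Helper4.MaxOpen Groth.Agent.Lib.Helper4.MaxOpenGrp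
  Groth.Agent.Lib.Helper24.Homog

variable {S : Scheme.{u}} {G X : Over S} [GrpObj G] (a : AlgGrp.Action G X)

/-- `y` is a translate of `x` -/
def Rel (x y : X.left) : Prop :=
  ∃ w : (G ⊗ X).left, (snd G X).left.base w = x ∧ a.act.left.base w = y

/-- a subset of `X` is stable under the action -/
def IsStable (D : Set X.left) : Prop :=
  a.act.left.base ⁻¹' D = (snd G X).left.base ⁻¹' D

variable {a}

theorem IsStable.compl {D : Set X.left} (h : IsStable a D) : IsStable a Dᶜ := by
  unfold IsStable at *
  rw [Set.preimage_compl, Set.preimage_compl, h]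

theorem IsStable.inter {D D' : Set X.left} (h : IsStable a D) (h' : IsStable a D') :
    IsStable a (D ∩ D') := by
  unfold IsStable at *
  rw [Set.preimage_inter, Set.preimage_inter, h, h']

theorem IsStable.diff {D D' : Set X.left} (h : IsStable a D) (h' : IsStable a D') :
    IsStable a (D \ D') := by
  rw [Set.sdiff_eq]
  exact h.inter h'.compl

theorem isStable_univ : IsStable a (Set.univ : Set X.left) := by
  unfold IsStable; simp

theorem isStable_empty : IsStable a (∅ : Set X.left) := by
  unfold IsStable; simp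

theorem IsStable.closure {D : Set X.left} (h : IsStable a D)
    (hact : IsOpenMap a.act.left.base) (hsnd : IsOpenMap (snd G X).left.base) :
    IsStable a (closure D) := by
  unfold IsStable at *
  rw [hact.preimage_closure_eq_closure_preimage a.act.left.continuous,
    hsnd.preimage_closure_eq_closure_preimage (snd G X).left.continuous, h]

theorem IsStable.mem_of_rel {D : Set X.left} (h : IsStable a D) {x y : X.left}
    (hxy : Rel a x y) (hx : x ∈ D) : y ∈ D := by
  obtain ⟨w, rfl, rfl⟩ := hxy
  have : w ∈ (snd G X).left.base ⁻¹' D := hx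
  rw [← h] at this
  exact this

theorem IsStable.mem_of_rel' {D : Set X.left} (h : IsStable a D) {x y : X.left}
    (hxy : Rel a x y) (hy : y ∈ D) : x ∈ D := by
  obtain ⟨w, rfl, rfl⟩ := hxy
  have : w ∈ a.act.left.base ⁻¹' D := hy
  rw [h] at this
  exact this

variable (a)

/-- the orbit map is equivariant for left translation -/
theorem orbitMap_equivariant (o : 𝟙_ (Over S) ⟶ X) :
    (G ◁ a.orbitMap o) ≫ a.act = (selfAct G).act ≫ a.orbitMap o := by
  change _ = μ[G] ≫ a.orbitMap o
  have h1 : a.orbitMap o = smul a (𝟙 G) (toUnit G ≫ o) := rfl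
  have h2 : (G ◁ a.orbitMap o) ≫ a.act =
      smul a (fst G G) (snd G G ≫ a.orbitMap o) := by
    unfold smul
    congr 1
  rw [h2, h1, comp_smul, comp_smul, Category.comp_id, Category.comp_id, ← mul_smul']
  congr 1
  · simp
  · rw [← Category.assoc, ← Category.assoc]
    congr 1
    exact toUnit_unique _ _

theorem orbitMap_eq_smul (o : 𝟙_ (Over S) ⟶ X) {T : Over S} (g : T ⟶ G) :
    g ≫ a.orbitMap o = smul a g (toUnit T ≫ o) := by
  have h1 : a.orbitMap o = smul a (𝟙 G) (toUnit G ≫ o) := rfl
  rw [h1, comp_smul, Category.comp_id, ← Category.assoc]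
  congr 2
  exact toUnit_unique _ _

/-- the image of an orbit map is stable -/
theorem isStable_range_orbitMap (o : 𝟙_ (Over S) ⟶ X) :
    IsStable a (Set.range (a.orbitMap o).left.base) := by
  have hsq1 := isPullback_whiskerLeft G G X (a.orbitMap o)
  have hsq2 := isPullback_act_of_equivariant (selfAct G) a (a.orbitMap o)
    (orbitMap_equivariant a o)
  unfold IsStable
  have e1 : (snd G X).left.base ⁻¹' Set.range (a.orbitMap o).left.base =
      Set.range (G ◁ a.orbitMap o).left.base := by
    ext w
    constructor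
    · rintro ⟨g, hg⟩
      obtain ⟨z, hz1, hz2⟩ := Scheme.Pullback.exists_preimage_pullback
        (f := (snd G X).left) (g := (a.orbitMap o).left) w g hg.symm
      refine ⟨hsq1.isoPullback.inv.base z, ?_⟩
      rw [← Scheme.Hom.comp_apply, hsq1.isoPullback_inv_fst]
      exact hz1
    · rintro ⟨z, rfl⟩
      refine ⟨(snd G G).left.base z, ?_⟩
      change _ = (snd G X).left.base ((G ◁ a.orbitMap o).left.base z)
      rw [← Scheme.Hom.comp_apply, ← Scheme.Hom.comp_apply, hsq1.w]
  have e2 : a.act.left.base ⁻¹' Set.range (a.orbitMap o).left.base =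
      Set.range (G ◁ a.orbitMap o).left.base := by
    ext w
    constructor
    · rintro ⟨g, hg⟩
      obtain ⟨z, hz1, hz2⟩ := Scheme.Pullback.exists_preimage_pullback
        (f := a.act.left) (g := (a.orbitMap o).left) w g hg.symm
      refine ⟨hsq2.isoPullback.inv.base z, ?_⟩
      rw [← Scheme.Hom.comp_apply, hsq2.isoPullback_inv_fst]
      exact hz1
    · rintro ⟨z, rfl⟩
      refine ⟨(selfAct G).act.left.base z, ?_⟩
      change _ = a.act.left.base ((G ◁ a.orbitMap o).left.base z)
      rw [← Scheme.Hom.comp_apply, ← Scheme.Hom.comp_apply, hsq2.w]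
  rw [e1, e2]

/-- the morphism `(p, q) ↦ (p q⁻¹, q · o)` -/
noncomputable def transl (o : 𝟙_ (Over S) ⟶ X) : G ⊗ G ⟶ G ⊗ X :=
  lift (lift (fst G G) (snd G G ≫ ι[G]) ≫ μ[G]) (snd G G ≫ a.orbitMap o)

theorem transl_snd (o : 𝟙_ (Over S) ⟶ X) :
    transl a o ≫ snd G X = snd G G ≫ a.orbitMap o := by
  unfold transl; simp

theorem transl_act (o : 𝟙_ (Over S) ⟶ X) :
    transl a o ≫ a.act = fst G G ≫ a.orbitMap o := by
  unfold transl
  change smul a _ _ = _
  rw [orbitMap_eq_smul, orbitMap_eq_smul, ← mul_smul']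
  congr 1
  change (fst G G * (snd G G)⁻¹) * snd G G = fst G G
  simp

/-- any two points of an orbit are translates of each other -/
theorem rel_of_mem_range_orbitMap [Subsingleton S] (o : 𝟙_ (Over S) ⟶ X) {e₁ e₂ : X.left}
    (h₁ : e₁ ∈ Set.range (a.orbitMap o).left.base)
    (h₂ : e₂ ∈ Set.range (a.orbitMap o).left.base) : Rel a e₁ e₂ := by
  obtain ⟨g₁, rfl⟩ := h₁
  obtain ⟨g₂, rfl⟩ := h₂
  -- a point of `G × G` over `(g₂, g₁)`
  obtain ⟨u, hu1, hu2⟩ := Scheme.Pullback.exists_preimage_pullback
    (f := G.hom) (g := G.hom) g₂ g₁ (Subsingleton.elim _ _)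
  refine ⟨(transl a o).left.base u, ?_, ?_⟩
  · rw [← Scheme.Hom.comp_apply, ← Over.comp_left, transl_snd, Over.comp_left,
      Scheme.Hom.comp_apply]
    congr 1
  · rw [← Scheme.Hom.comp_apply, ← Over.comp_left, transl_act, Over.comp_left,
      Scheme.Hom.comp_apply]
    congr 1

/-- a stable subset meeting an orbit contains it -/
theorem IsStable.range_orbitMap_subset [Subsingleton S] {D : Set X.left} (h : IsStable a D)
    (o : 𝟙_ (Over S) ⟶ X) (hne : (D ∩ Set.range (a.orbitMap o).left.base).Nonempty) :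
    Set.range (a.orbitMap o).left.base ⊆ D := by
  obtain ⟨e₁, he₁D, he₁⟩ := hne
  intro e₂ he₂
  exact h.mem_of_rel (rel_of_mem_range_orbitMap a o he₁ he₂) he₁D

end Groth.Agent.Lib.Helper24.Orbit
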