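import Mathlib
import Groth.Agent.Lib.Helper24.Orbit.Stable
import Groth.Agent.Lib.Helper24.Orbit.OpenInClosure

/-!
# Orbits of rational points are locally closed; existence of closed orbits
-/

set_option autoImplicit false
universe u

open CategoryTheory MonoidalCategory CartesianMonoidalCategory MonObj AlgebraicGeometry Limits

namespace Groth.Agent.Lib.Helper24.Orbit

open Groth.Agent.Lib.Helper4 Groth.Agent.Lib.Helper4.ActShear Groth.Agent.Lib.Helper4.ActShear2

section field

variable (k : Type u) [Field k] (G X : Over (Spec (CommRingCat.of k))) [GrpObj G]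
  (a : AlgGrp.Action G X)

instance subsingleton_Spec_field : Subsingleton ↥(Spec (CommRingCat.of k)) :=
  inferInstanceAs (Subsingleton (PrimeSpectrum k))

theorem isOpenMap_act : IsOpenMap a.act.left.base := by
  have h1 : UniversallyOpen G.hom := inferInstance
  have : UniversallyOpen a.act.left := of_base_change a @UniversallyOpen h1
  exact a.act.left.isOpenMap

omit [GrpObj G] in
theorem isOpenMap_snd : IsOpenMap (snd G X).left.base := by
  have h1 : UniversallyOpen G.hom := inferInstance
  have : UniversallyOpen (snd G X).left :=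
    inferInstanceAs (UniversallyOpen (pullback.snd G.hom X.hom))
  exact (snd G X).left.isOpenMap

theorem nonempty_left : Nonempty G.left := by
  have h : Surjective G.hom := surjective_hom
  obtain ⟨g, -⟩ := h.1 (⟨⊥, Ideal.isPrime_bot⟩ : PrimeSpectrum k)
  exact ⟨g⟩

variable {k G X}

theorem IsStable.closure' {D : Set X.left} (h : IsStable a D) : IsStable a (_root_.closure D) :=
  h.closure (isOpenMap_act k G X a) (isOpenMap_snd k G X)

/-- the boundary of an orbit is closed -/
theorem isClosed_closure_diff_range_orbitMap [LocallyOfFiniteType G.hom] [QuasiCompact G.hom]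
    [LocallyOfFiniteType X.hom] [QuasiSeparated X.hom]
    (x : 𝟙_ (Over (Spec (CommRingCat.of k))) ⟶ X) :
    IsClosed (closure (Set.range (a.orbitMap x).left.base) \ Set.range (a.orbitMap x).left.base) := by
  set E := Set.range (a.orbitMap x).left.base with hE
  have hEst : IsStable a E := isStable_range_orbitMap a x
  have hBst : IsStable a (closure E \ E) := (hEst.closure' a).diff hEst
  have hDst : IsStable a (closure (closure E \ E) ∩ E) := ((hBst.closure' a)).inter hEst
  haveI : LocallyOfFiniteType (a.orbitMap x).left := by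
    have : LocallyOfFiniteType ((a.orbitMap x).left ≫ X.hom) := by
      rw [Over.w (a.orbitMap x)]; infer_instance
    exact locallyOfFiniteType_of_comp (a.orbitMap x).left X.hom
  haveI : QuasiCompact (a.orbitMap x).left := by
    have : QuasiCompact ((a.orbitMap x).left ≫ X.hom) := by
      rw [Over.w (a.orbitMap x)]; infer_instance
    exact QuasiCompact.of_comp (a.orbitMap x).left X.hom
  haveI : Nonempty G.left := nonempty_left k G
  obtain ⟨O, ⟨p, hpO, hpC⟩, hOE⟩ := exists_open_inter_closure_subset_range (a.orbitMap x).left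
  have hempty : closure (closure E \ E) ∩ E = ∅ := by
    by_contra hne
    rw [← Ne, ← Set.nonempty_iff_ne_empty] at hne
    have hsub : E ⊆ closure (closure E \ E) ∩ E :=
      hDst.range_orbitMap_subset a x (by
        obtain ⟨e, he⟩ := hne
        exact ⟨e, he, he.2⟩)
    have hC : closure E ⊆ closure (closure E \ E) :=
      closure_minimal (fun e he => (hsub he).1) isClosed_closure
    have hp : p ∈ closure (closure E \ E) := hC hpC
    rw [mem_closure_iff] at hp
    obtain ⟨b, hbO, hbC, hbE⟩ := hp O O.2 hpO
    exact hbE (hOE ⟨hbO, hbC⟩)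
  have : closure (closure E \ E) ⊆ closure E \ E := by
    intro z hz
    refine ⟨closure_mono Set.sdiff_subset hz |> fun h => by rwa [closure_closure] at h, ?_⟩
    intro hzE
    have : z ∈ closure (closure E \ E) ∩ E := ⟨hz, hzE⟩
    rw [hempty] at this
    exact this
  exact closure_subset_iff_isClosed.1 this

/-- orbits of rational points are locally closed -/
theorem isLocallyClosed_range_orbitMap [LocallyOfFiniteType G.hom] [QuasiCompact G.hom]
    [LocallyOfFiniteType X.hom] [QuasiSeparated X.hom]
    (x : 𝟙_ (Over (Spec (CommRingCat.of k))) ⟶ X) :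
    IsLocallyClosed (Set.range (a.orbitMap x).left.base) := by
  have h := isClosed_closure_diff_range_orbitMap a x
  refine ⟨_, _, h.isOpen_compl, isClosed_closure (s := Set.range (a.orbitMap x).left.base), ?_⟩
  ext z
  constructor
  · intro hz
    exact ⟨fun hz' => hz'.2 hz, subset_closure hz⟩
  · rintro ⟨hz1, hz2⟩
    by_contra hz
    exact hz1 ⟨hz2, hz⟩

/-- the orbit of a rational point contains that point -/
theorem unit_orbitMap (x : 𝟙_ (Over (Spec (CommRingCat.of k))) ⟶ X) :
    η[G] ≫ a.orbitMap x = x := by
  rw [orbitMap_eq_smul]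
  have h := one_smul' a x
  rw [toUnit_unique (toUnit (𝟙_ (Over (Spec (CommRingCat.of k))))) (𝟙 _), Category.id_comp] at h ⊢
  exact h

theorem mem_range_orbitMap (x : 𝟙_ (Over (Spec (CommRingCat.of k))) ⟶ X)
    (pt : (𝟙_ (Over (Spec (CommRingCat.of k)))).left) :
    x.left.base pt ∈ Set.range (a.orbitMap x).left.base := by
  refine ⟨η[G].left.base pt, ?_⟩
  rw [← Scheme.Hom.comp_apply, ← Over.comp_left, unit_orbitMap]

/-- there is a rational point with closed orbit -/
theorem exists_isClosed_range_orbitMap [IsAlgClosed k] [LocallyOfFiniteType G.hom]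
    [QuasiCompact G.hom] [LocallyOfFiniteType X.hom] [QuasiCompact X.hom] [Nonempty X.left] :
    ∃ x : 𝟙_ (Over (Spec (CommRingCat.of k))) ⟶ X,
      IsClosed (Set.range (a.orbitMap x).left.base) := by
  haveI : IsLocallyNoetherian X.left := LocallyOfFiniteType.isLocallyNoetherian X.hom
  haveI : QuasiSeparated X.hom := by
    rw [quasiSeparated_iff_quasiSeparatedSpace]
    infer_instance
  haveI : CompactSpace X.left := by
    have := (quasiCompact_iff_compactSpace (f := X.hom ≫ terminal.from _)).1 inferInstance
    exact this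
  haveI : IsNoetherian X.left := {}
  haveI : TopologicalSpace.NoetherianSpace X.left := inferInstance
  -- a minimal nonempty closed stable subset
  let F : Set (TopologicalSpace.Closeds X.left) :=
    {M | IsStable a (M : Set X.left) ∧ (M : Set X.left).Nonempty}
  have hF : F.Nonempty := ⟨⊤, isStable_univ, Set.univ_nonempty⟩
  obtain ⟨M, ⟨hMst, hMne⟩, hMmin⟩ := wellFounded_lt.has_min F hF
  -- a rational point in `M`
  obtain ⟨y, hy1, hy2⟩ := Homog.exists_Kpoint_mem_closed (K := k) X.hom (M : Set X.left)
    M.isClosed hMne
  have hy1' : y ≫ X.hom = (𝟙_ (Over (Spec (CommRingCat.of k)))).hom := by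
    rw [hy1]
    change Spec.map (CommRingCat.ofHom (RingHom.id k)) = 𝟙 _
    exact Spec.map_id _
  let x : 𝟙_ (Over (Spec (CommRingCat.of k))) ⟶ X := Over.homMk y hy1'
  refine ⟨x, ?_⟩
  set E := Set.range (a.orbitMap x).left.base with hE
  let pt : (𝟙_ (Over (Spec (CommRingCat.of k)))).left :=
    (⟨⊥, Ideal.isPrime_bot⟩ : PrimeSpectrum k)
  have hptE : x.left.base pt ∈ E := mem_range_orbitMap a x pt
  have hEM : E ⊆ (M : Set X.left) :=
    hMst.range_orbitMap_subset a x ⟨x.left.base pt, hy2 pt, hptE⟩
  have hEst : IsStable a E := isStable_range_orbitMap a x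
  have hBcl := isClosed_closure_diff_range_orbitMap a x
  have hBst : IsStable a (closure E \ E) := (hEst.closure' a).diff hEst
  let B : TopologicalSpace.Closeds X.left := ⟨closure E \ E, hBcl⟩
  have hBM : B < M := by
    refine lt_of_le_of_ne ?_ ?_
    · intro z hz
      exact (closure_minimal hEM M.isClosed) hz.1
    · intro h
      have : x.left.base pt ∈ (B : Set X.left) := by rw [h]; exact hy2 pt
      exact this.2 hptE
  have hBempty : closure E \ E = ∅ := by
    by_contra hne
    rw [← Ne, ← Set.nonempty_iff_ne_empty] at hne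
    exact hMmin B ⟨hBst, hne⟩ hBM
  have : closure E ⊆ E := Set.sdiff_eq_empty.1 hBempty
  exact closure_subset_iff_isClosed.1 this

end field

end Groth.Agent.Lib.Helper24.Orbit
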