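import Mathlib
import Groth.Prelude.Def_AlgGrp

/-!
# Restricting an action to a stable subobject
-/

set_option autoImplicit false
universe u

open CategoryTheory MonoidalCategory CartesianMonoidalCategory MonObj AlgebraicGeometry Limits

namespace Groth.Agent.Lib.Helper24.Orbit

variable {S : Scheme.{u}} {G X Z : Over S} [GrpObj G] (a : AlgGrp.Action G X)

/-- an action restricts to a subobject through which the action map factors -/
noncomputable def subAction (z : Z ⟶ X) [Mono z] (ψ : G ⊗ Z ⟶ Z)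
    (hψ : ψ ≫ z = (G ◁ z) ≫ a.act) : AlgGrp.Action G Z where
  act := ψ
  one_act := by
    rw [← cancel_mono z]
    calc ((η[G] ▷ Z) ≫ ψ) ≫ z = (η[G] ▷ Z) ≫ (G ◁ z) ≫ a.act := by
          rw [Category.assoc, hψ]
      _ = (𝟙_ _ ◁ z) ≫ (η[G] ▷ X) ≫ a.act := by
          rw [← Category.assoc, ← whisker_exchange, Category.assoc]
      _ = (𝟙_ _ ◁ z) ≫ (λ_ X).hom := by rw [a.one_act]
      _ = (λ_ Z).hom ≫ z := leftUnitor_naturality z
  mul_act := by
    rw [← cancel_mono z]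
    calc ((μ[G] ▷ Z) ≫ ψ) ≫ z = (μ[G] ▷ Z) ≫ (G ◁ z) ≫ a.act := by
          rw [Category.assoc, hψ]
      _ = ((G ⊗ G) ◁ z) ≫ (μ[G] ▷ X) ≫ a.act := by
          rw [← Category.assoc, ← whisker_exchange, Category.assoc]
      _ = ((G ⊗ G) ◁ z) ≫ (α_ G G X).hom ≫ (G ◁ a.act) ≫ a.act := by rw [a.mul_act]
      _ = (α_ G G Z).hom ≫ (G ◁ (G ◁ z)) ≫ (G ◁ a.act) ≫ a.act := by
          rw [← Category.assoc, associator_naturality_right]; simp only [Category.assoc]
      _ = (α_ G G Z).hom ≫ (G ◁ ((G ◁ z) ≫ a.act)) ≫ a.act := by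
          rw [MonoidalCategory.whiskerLeft_comp, Category.assoc]
      _ = (α_ G G Z).hom ≫ (G ◁ (ψ ≫ z)) ≫ a.act := by rw [hψ]
      _ = (α_ G G Z).hom ≫ (G ◁ ψ) ≫ (G ◁ z) ≫ a.act := by
          rw [MonoidalCategory.whiskerLeft_comp, Category.assoc]
      _ = ((α_ G G Z).hom ≫ (G ◁ ψ) ≫ ψ) ≫ z := by
          rw [← hψ]; simp only [Category.assoc]

theorem subAction_act (z : Z ⟶ X) [Mono z] (ψ : G ⊗ Z ⟶ Z)
    (hψ : ψ ≫ z = (G ◁ z) ≫ a.act) : (subAction a z ψ hψ).act = ψ := rfl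

end Groth.Agent.Lib.Helper24.Orbit
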