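import Mathlib
import Groth.Prelude.Def_AGF
import Groth.Agent.Lib.Helper24.Orbit.LocallyClosed
import Groth.Agent.Lib.Helper24.Orbit.RedSub
import Groth.Agent.Lib.Helper24.Orbit.SubAction
import Groth.Agent.Lib.Helper13.FlatReduced
import Groth.Agent.Lib.Helper24.WeilExt.Local
import Groth.Agent.Lib.Helper4.QuotUniv

/-!
# The orbit of a rational point under a smooth group is the quotient by the stabilizer
-/

set_option autoImplicit false
universe u

open CategoryTheory MonoidalCategory CartesianMonoidalCategory MonObj AlgebraicGeometry Limits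

namespace Groth.Agent.Lib.Helper24.Orbit

open Groth.Agent.Lib.Helper4 Groth.Agent.Lib.Helper4.ActShear Groth.Agent.Lib.Helper4.ActShear2

/-- cancel a monomorphism from a cartesian square -/
theorem isPullback_of_comp_mono {C : Type*} [Category C] {P A B Z X : C} {f : P ⟶ A} {g : P ⟶ B}
    {h : A ⟶ Z} {l : B ⟶ Z} (z : Z ⟶ X) [Mono z] (H : IsPullback f g (h ≫ z) (l ≫ z)) :
    IsPullback f g h l := by
  have hw : f ≫ h = g ≫ l := by
    rw [← cancel_mono z, Category.assoc, Category.assoc]; exact H.w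
  refine ⟨⟨hw⟩, ⟨PullbackCone.IsLimit.mk hw
    (fun s => H.lift s.fst s.snd (by rw [← Category.assoc, s.condition, Category.assoc]))
    (fun s => H.lift_fst _ _ _) (fun s => H.lift_snd _ _ _) ?_⟩⟩
  intro s m h1 h2
  apply H.hom_ext
  · rw [h1, H.lift_fst]
  · rw [h2, H.lift_snd]

section field

variable {k : Type u} [Field k]

/-- the product of a smooth `k`-scheme with a reduced `k`-scheme is reduced -/
theorem isReduced_tensor_of_smooth (G Z : Over (Spec (CommRingCat.of k))) [Smooth G.hom]
    [LocallyOfFiniteType Z.hom] [IsReduced Z.left] : IsReduced (G ⊗ Z).left := by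
  let f : (G ⊗ Z).left ⟶ Z.left := pullback.snd G.hom Z.hom
  haveI : Smooth f := inferInstanceAs (Smooth (pullback.snd G.hom Z.hom))
  haveI : IsLocallyNoetherian Z.left := LocallyOfFiniteType.isLocallyNoetherian Z.hom
  haveI : IsLocallyNoetherian (G ⊗ Z).left := LocallyOfFiniteType.isLocallyNoetherian f
  refine Groth.Agent.Lib.Helper13.FlatReduced.isReduced_of_flat f (fun x => inferInstance) ?_
  intro y
  haveI : Smooth (f.fiberToSpecResidueField y) :=
    inferInstanceAs (Smooth (pullback.snd f (Z.left.fromSpecResidueField y)))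
  exact Groth.Agent.Lib.Helper24.WeilExt.isReduced_of_smooth (R := Z.left.residueField y)
    (f.fiberToSpecResidueField y)

/-- lifting points with values in an algebraically closed field along a surjective morphism -/
theorem exists_Kpoint_lift {K : Type u} [Field K] [IsAlgClosed K] {A B : Scheme.{u}} (m : A ⟶ B)
    [LocallyOfFiniteType m] [Surjective m] (y : Spec (CommRingCat.of K) ⟶ B) :
    ∃ g : Spec (CommRingCat.of K) ⟶ A, g ≫ m = y := by
  let c : ↥(Spec (CommRingCat.of K)) := IsLocalRing.closedPoint K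
  obtain ⟨a₀, ha₀⟩ := m.surjective (y.base c)
  obtain ⟨p, hp1, hp2⟩ := Scheme.Pullback.exists_preimage_pullback (f := m) (g := y) a₀ c ha₀
  obtain ⟨s, hs1, -⟩ := Homog.exists_Kpoint_mem_open (k := K) (K := K) (pullback.snd m y) ⊤ ⟨p, trivial⟩
  have hs1' : s ≫ pullback.snd m y = 𝟙 _ := by
    rw [hs1]
    change Spec.map (CommRingCat.ofHom (RingHom.id K)) = 𝟙 _
    exact Spec.map_id _
  refine ⟨s ≫ pullback.fst m y, ?_⟩
  rw [Category.assoc, pullback.condition, ← Category.assoc, hs1', Category.id_comp]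

/-- **The reduced orbit.** For a smooth group `G` of finite type acting on a scheme of finite type,
the reduced orbit `Z` of a rational point carries an action of `G` for which the orbit map
`G → Z` is faithfully flat, and `G` acts transitively on its geometric points. -/
theorem exists_orbit_data (G X : Over (Spec (CommRingCat.of k))) [GrpObj G]
    [LocallyOfFiniteType G.hom] [QuasiCompact G.hom] [Smooth G.hom] [LocallyOfFiniteType X.hom]
    [QuasiCompact X.hom] (a : AlgGrp.Action G X) (o : 𝟙_ _ ⟶ X) :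
    ∃ (Y : Over (Spec (CommRingCat.of k))) (b : AlgGrp.Action G Y) (y : 𝟙_ _ ⟶ Y) (f : Y ⟶ X),
      Mono f ∧ (G ◁ f) ≫ a.act = b.act ≫ f ∧ y ≫ f = o ∧ IsImmersion f.left ∧
      IsReduced Y.left ∧ Set.range f.left.base = Set.range (a.orbitMap o).left.base ∧
      LocallyOfFiniteType Y.hom ∧ QuasiCompact Y.hom ∧
      b.orbitMap y ≫ f = a.orbitMap o ∧
      Flat (b.orbitMap y).left ∧ Surjective (b.orbitMap y).left ∧
      ∀ y₁ y₂ : Over.mk (Spec.map (CommRingCat.ofHom (algebraMap k (AlgebraicClosure k)))) ⟶ Y,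
        ∃ g : Over.mk (Spec.map (CommRingCat.ofHom (algebraMap k (AlgebraicClosure k)))) ⟶ G,
          lift g y₁ ≫ b.act = y₂ := by
  haveI : IsLocallyNoetherian X.left := LocallyOfFiniteType.isLocallyNoetherian X.hom
  haveI : QuasiSeparated X.hom := by
    rw [quasiSeparated_iff_quasiSeparatedSpace]
    infer_instance
  set E := Set.range (a.orbitMap o).left.base with hEdef
  have hE : IsClosed (closure E \ E) := isClosed_closure_diff_range_orbitMap a o
  have hEst : IsStable a E := isStable_range_orbitMap a o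
  let ζ : redSub E hE ⟶ X.left := redSubι E hE
  have hζr : Set.range ζ.base = E := range_redSubι E hE
  let Z : Over (Spec (CommRingCat.of k)) := Over.mk (ζ ≫ X.hom)
  let z : Z ⟶ X := Over.homMk ζ rfl
  haveI : Mono ζ := inferInstance
  haveI : Mono z := (Over.forget _).mono_of_mono_map (inferInstanceAs (Mono ζ))
  haveI : LocallyOfFiniteType Z.hom := inferInstanceAs (LocallyOfFiniteType (ζ ≫ X.hom))
  haveI : IsReduced Z.left := inferInstanceAs (IsReduced (redSub E hE))
  haveI : IsReduced (G ⊗ Z).left := isReduced_tensor_of_smooth G Z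
  -- the action on `Z`
  have hrange : Set.range ((G ◁ z) ≫ a.act).left.base ⊆ E := by
    rintro _ ⟨w, rfl⟩
    rw [Over.comp_left, Scheme.Hom.comp_apply]
    have h1 : (G ◁ z).left.base w ∈ (snd G X).left.base ⁻¹' E := by
      change (snd G X).left.base ((G ◁ z).left.base w) ∈ E
      rw [← Scheme.Hom.comp_apply, ← Over.comp_left, whiskerLeft_snd, Over.comp_left,
        Scheme.Hom.comp_apply, ← hζr]
      exact ⟨_, rfl⟩
    rw [← hEst] at h1
    exact h1
  obtain ⟨ψ₀, hψ₀⟩ := exists_lift_redSub E hE ((G ◁ z) ≫ a.act).left hrange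
  have hψover : ψ₀ ≫ Z.hom = (G ⊗ Z).hom := by
    change ψ₀ ≫ ζ ≫ X.hom = _
    rw [← Category.assoc, hψ₀]
    exact Over.w ((G ◁ z) ≫ a.act)
  let ψ : G ⊗ Z ⟶ Z := Over.homMk ψ₀ hψover
  have hψ : ψ ≫ z = (G ◁ z) ≫ a.act := by
    ext1
    exact hψ₀
  let b : AlgGrp.Action G Z := subAction a z ψ hψ
  -- the base point
  haveI : IsReduced (𝟙_ (Over (Spec (CommRingCat.of k)))).left :=
    inferInstanceAs (IsReduced (Spec (CommRingCat.of k)))
  have hrange' : Set.range o.left.base ⊆ E := by
    rintro _ ⟨pt, rfl⟩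
    exact mem_range_orbitMap a o pt
  obtain ⟨y₀, hy₀⟩ := exists_lift_redSub E hE o.left hrange'
  have hyover : y₀ ≫ Z.hom = (𝟙_ (Over (Spec (CommRingCat.of k)))).hom := by
    change y₀ ≫ ζ ≫ X.hom = _
    rw [← Category.assoc, hy₀]
    exact Over.w o
  let y : 𝟙_ (Over (Spec (CommRingCat.of k))) ⟶ Z := Over.homMk y₀ hyover
  have hy : y ≫ z = o := by
    ext1
    exact hy₀
  -- the orbit map
  have horb : b.orbitMap y ≫ z = a.orbitMap o := by
    unfold AlgGrp.Action.orbitMap
    change (lift (𝟙 G) (toUnit G ≫ y) ≫ ψ) ≫ z = _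
    rw [Category.assoc, hψ, ← Category.assoc, lift_whiskerLeft, Category.assoc, hy]
  haveI hsurj : Surjective (b.orbitMap y).left := by
    refine ⟨fun p => ?_⟩
    have hp : ζ.base p ∈ E := hζr.le ⟨p, rfl⟩
    obtain ⟨g, hg⟩ := hp
    refine ⟨g, ?_⟩
    apply ζ.isEmbedding.injective
    rw [← hg]
    change (b.orbitMap y ≫ z).left.base g = _
    rw [horb]
  haveI : CompactSpace Z.left := by
    haveI : CompactSpace G.left := (quasiCompact_iff_compactSpace G.hom).1 inferInstance
    rw [← isCompact_univ_iff, ← Set.range_eq_univ.2 hsurj.1]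
    exact isCompact_range (b.orbitMap y).left.continuous
  haveI : QuasiCompact Z.hom := (quasiCompact_iff_compactSpace Z.hom).2 inferInstance
  haveI : IsLocallyNoetherian Z.left := LocallyOfFiniteType.isLocallyNoetherian Z.hom
  haveI : QuasiSeparated Z.hom := by
    rw [quasiSeparated_iff_quasiSeparatedSpace]
    infer_instance
  haveI : LocallyOfFiniteType (b.orbitMap y).left := by
    have : LocallyOfFiniteType ((b.orbitMap y).left ≫ Z.hom) := by
      rw [Over.w (b.orbitMap y)]; infer_instance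
    exact locallyOfFiniteType_of_comp (b.orbitMap y).left Z.hom
  haveI : QuasiCompact (b.orbitMap y).left := by
    have : QuasiCompact ((b.orbitMap y).left ≫ Z.hom) := by
      rw [Over.w (b.orbitMap y)]; infer_instance
    exact QuasiCompact.of_comp (b.orbitMap y).left Z.hom
  haveI : Nonempty G.left := nonempty_left k G
  -- transitivity on points with values in an algebraic closure
  have htr : ∀ y₁ y₂ : Over.mk (Spec.map (CommRingCat.ofHom (algebraMap k (AlgebraicClosure k)))) ⟶ Z,
      ∃ g : Over.mk (Spec.map (CommRingCat.ofHom (algebraMap k (AlgebraicClosure k)))) ⟶ G,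
        lift g y₁ ≫ b.act = y₂ := by
    have key : ∀ y' : Over.mk (Spec.map (CommRingCat.ofHom (algebraMap k (AlgebraicClosure k)))) ⟶ Z,
        ∃ g : Over.mk (Spec.map (CommRingCat.ofHom (algebraMap k (AlgebraicClosure k)))) ⟶ G,
          g ≫ b.orbitMap y = y' := by
      intro y'
      obtain ⟨g₀, hg₀⟩ := exists_Kpoint_lift (b.orbitMap y).left y'.left
      have hover : g₀ ≫ G.hom =
          (Over.mk (Spec.map (CommRingCat.ofHom (algebraMap k (AlgebraicClosure k))))).hom := by
        rw [← Over.w (b.orbitMap y), ← Category.assoc, hg₀]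
        exact Over.w y'
      refine ⟨Over.homMk g₀ hover, ?_⟩
      ext1
      exact hg₀
    intro y₁ y₂
    obtain ⟨g₁, hg₁⟩ := key y₁
    obtain ⟨g₂, hg₂⟩ := key y₂
    refine ⟨g₂ * g₁⁻¹, ?_⟩
    change smul b (g₂ * g₁⁻¹) y₁ = y₂
    rw [← hg₁, ← hg₂, orbitMap_eq_smul, orbitMap_eq_smul, ← mul_smul']
    congr 1
    change (g₂ * g₁⁻¹) * g₁ = g₂
    simp
  obtain ⟨hflat, -⟩ := Homog.equivariant_flat_surjective k (AlgebraicClosure k) G G Z (selfAct G) b
    (b.orbitMap y) (orbitMap_equivariant b y) htr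
  exact ⟨Z, b, y, z, inferInstance, hψ.symm, hy, inferInstanceAs (IsImmersion ζ), inferInstance,
    hζr, inferInstance, inferInstance, horb, hflat, hsurj, htr⟩

/-- **The orbit as a quotient.** For a smooth group `G` of finite type acting on a separated scheme
of finite type, the reduced orbit of a rational point is the quotient of `G` by the stabilizer. -/
theorem exists_quotient_orbit (G X Go : Over (Spec (CommRingCat.of k))) [GrpObj G] [GrpObj Go]
    [LocallyOfFiniteType G.hom] [QuasiCompact G.hom] [Smooth G.hom] [LocallyOfFiniteType X.hom]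
    [QuasiCompact X.hom] [IsSeparated X.hom] (a : AlgGrp.Action G X) (o : 𝟙_ _ ⟶ X)
    (i : Go ⟶ G) [IsMonHom i] (hGo : IsPullback i (toUnit Go) (a.orbitMap o) o) :
    ∃ (Y : Over (Spec (CommRingCat.of k))) (b : AlgGrp.Action G Y) (y : 𝟙_ _ ⟶ Y) (f : Y ⟶ X),
      AGF.IsQuotient i Y b y ∧ (G ◁ f) ≫ a.act = b.act ≫ f ∧ y ≫ f = o ∧ IsImmersion f.left ∧
      IsReduced Y.left := by
  obtain ⟨Z, b, y, z, hmono, hψ, hy, himm, hred, -, hlft, hqc, horb, hflat, hsurj, -⟩ :=
    exists_orbit_data G X a o
  haveI := hmono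
  haveI := hlft
  haveI := hqc
  haveI := himm
  haveI : IsSeparated Z.hom := by
    rw [← Over.w z]
    infer_instance
  have hGo' : IsPullback i (toUnit Go) (b.orbitMap y) y :=
    isPullback_of_comp_mono z (by rw [horb, hy]; exact hGo)
  have hquot : AGF.IsQuotient i Z b y :=
    (QuotUniv.main8009 k G Z Go b y i hGo').2 ⟨hflat, hsurj⟩
  exact ⟨Z, b, y, z, hquot, hψ, hy, himm, hred⟩

end field

end Groth.Agent.Lib.Helper24.Orbit
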