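import Mathlib
import Groth.Agent.Lib.Helper24.Orbit.Quotient

/-!
# Homogeneous spaces under smooth groups are smooth
-/

set_option autoImplicit false
universe u

open CategoryTheory MonoidalCategory CartesianMonoidalCategory MonObj AlgebraicGeometry Limits

namespace Groth.Agent.Lib.Helper24.Orbit

open Groth.Agent.Lib.Helper4 Groth.Agent.Lib.Helper4.ActShear Groth.Agent.Lib.Helper4.ActShear2
  Groth.Agent.Lib.Helper4.MaxOpenGrp

theorem smoothLocus_congr {X Y : Scheme.{u}} {q q' : X ⟶ Y} (h : q = q')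
    [LocallyOfFinitePresentation q] [LocallyOfFinitePresentation q'] :
    q.smoothLocus = q'.smoothLocus := by
  subst h
  rfl

variable {k : Type u} [Field k]

/-- a scheme of finite type over `k` with a smooth group acting on it, faithfully flat orbit map
and transitive action on geometric points, is smooth -/
theorem smooth_of_homogeneous (G Z : Over (Spec (CommRingCat.of k))) [GrpObj G] [Smooth G.hom]
    [LocallyOfFiniteType Z.hom] (b : AlgGrp.Action G Z) (y : 𝟙_ _ ⟶ Z)
    (hflat : Flat (b.orbitMap y).left) (hsurj : Surjective (b.orbitMap y).left)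
    (htr : ∀ y₁ y₂ : Over.mk (Spec.map (CommRingCat.ofHom (algebraMap k (AlgebraicClosure k)))) ⟶ Z,
      ∃ g : Over.mk (Spec.map (CommRingCat.ofHom (algebraMap k (AlgebraicClosure k)))) ⟶ G,
        lift g y₁ ≫ b.act = y₂) : Smooth Z.hom := by
  let K : Type u := AlgebraicClosure k
  let gK : Spec (CommRingCat.of K) ⟶ Spec (CommRingCat.of k) :=
    Spec.map (CommRingCat.ofHom (algebraMap k K))
  let T : Over (Spec (CommRingCat.of k)) := Over.mk gK
  haveI : LocallyOfFinitePresentation Z.hom :=
    LocallyOfFinitePresentation.iff_locallyOfFiniteType.2 inferInstance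
  apply MorphismProperty.of_pullback_fst_of_descendsAlong (P := @Smooth)
    (Q := @Surjective ⊓ @Flat ⊓ @QuasiCompact) (f := gK) (g := Z.hom)
  · exact ⟨⟨inferInstance, inferInstance⟩, inferInstance⟩
  let p : (T ⊗ Z).left ⟶ Spec (CommRingCat.of K) := pullback.fst gK Z.hom
  change Smooth p
  haveI : LocallyOfFinitePresentation p :=
    inferInstanceAs (LocallyOfFinitePresentation (pullback.fst gK Z.hom))
  -- reducedness of the base change
  haveI : IsReduced (T ⊗ Z).left := by
    haveI : Smooth (pullback.fst gK G.hom) := inferInstance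
    haveI : IsReduced (T ⊗ G).left :=
      Groth.Agent.Lib.Helper24.WeilExt.isReduced_of_smooth (R := K) (pullback.fst gK G.hom)
    have sq := isPullback_whiskerLeft T G Z (b.orbitMap y)
    have h1 : Flat (T ◁ b.orbitMap y).left := MorphismProperty.of_isPullback (P := @Flat) sq.flip hflat
    have h2 : Surjective (T ◁ b.orbitMap y).left :=
      MorphismProperty.of_isPullback (P := @Surjective) sq.flip hsurj
    haveI : Flat (𝟙 _ ≫ (T ◁ b.orbitMap y).left) := by rw [Category.id_comp]; exact h1
    haveI : Surjective (𝟙 _ ≫ (T ◁ b.orbitMap y).left) := by rw [Category.id_comp]; exact h2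
    exact Groth.Agent.Lib.Helper4.QuotFlat.isReduced_of_dominated (𝟙 _) (T ◁ b.orbitMap y).left
  haveI : JacobsonSpace (T ⊗ Z).left := LocallyOfFiniteType.jacobsonSpace p
  rw [← Scheme.Hom.smoothLocus_eq_top_iff, ← TopologicalSpace.Opens.coe_eq_univ,
    ← not_ne_iff, ← Set.nonempty_compl]
  intro H
  obtain ⟨x, hx, hxc⟩ :=
    nonempty_inter_closedPoints H p.smoothLocus.2.isClosed_compl.isLocallyClosed
  haveI : Nonempty (T ⊗ Z).left := ⟨x⟩
  obtain ⟨y', hy' : y' ∈ p.smoothLocus, hyc⟩ := nonempty_inter_closedPoints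
    p.dense_smoothLocus_of_perfectField.nonempty p.smoothLocus.2.isLocallyClosed
  let sx := (pointEquivClosedPoint p).symm ⟨x, hxc⟩
  let sy := (pointEquivClosedPoint p).symm ⟨y', hyc⟩
  have hsx : sx.1.base (IsLocalRing.closedPoint K) = x :=
    congrArg Subtype.val ((pointEquivClosedPoint p).apply_symm_apply ⟨x, hxc⟩)
  have hsy : sy.1.base (IsLocalRing.closedPoint K) = y' :=
    congrArg Subtype.val ((pointEquivClosedPoint p).apply_symm_apply ⟨y', hyc⟩)
  -- the corresponding `T`-points of `Z`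
  have hover : ∀ s : {s : Spec (CommRingCat.of K) ⟶ (T ⊗ Z).left // s ≫ p = 𝟙 _},
      (s.1 ≫ pullback.snd gK Z.hom) ≫ Z.hom = T.hom := by
    intro s
    rw [Category.assoc, ← pullback.condition, ← Category.assoc]
    have := s.2
    change s.1 ≫ pullback.fst gK Z.hom = 𝟙 _ at this
    rw [this, Category.id_comp]
    rfl
  let x' : T ⟶ Z := Over.homMk (sx.1 ≫ pullback.snd gK Z.hom) (hover sx)
  let y'' : T ⟶ Z := Over.homMk (sy.1 ≫ pullback.snd gK Z.hom) (hover sy)
  have hlift : ∀ (s : {s : Spec (CommRingCat.of K) ⟶ (T ⊗ Z).left // s ≫ p = 𝟙 _})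
      (t : T ⟶ Z), t.left = s.1 ≫ pullback.snd gK Z.hom → (lift (𝟙 T) t).left = s.1 := by
    intro s t ht
    apply pullback.hom_ext
    · have h1 : (lift (𝟙 T) t).left ≫ pullback.fst T.hom Z.hom = (lift (𝟙 T) t ≫ fst T Z).left := rfl
      rw [h1, lift_fst]
      exact s.2.symm
    · have h1 : (lift (𝟙 T) t).left ≫ pullback.snd T.hom Z.hom = (lift (𝟙 T) t ≫ snd T Z).left := rfl
      rw [h1, lift_snd, ht]
      rfl
  obtain ⟨g₀, hg₀⟩ := htr x' y''
  -- the translation
  let σ : T ⊗ Z ⟶ T ⊗ Z := shearT b g₀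
  haveI : IsIso σ.left := inferInstanceAs (IsIso (shearT b g₀).left)
  have hσp : σ.left ≫ p = p := by
    have h1 : σ.left ≫ p = (σ ≫ fst T Z).left := rfl
    rw [h1]
    have h2 : σ ≫ fst T Z = fst T Z := by
      change shearT b g₀ ≫ _ = _
      unfold shearT
      rw [lift_fst]
    rw [h2]
    rfl
  have hσ : lift (𝟙 T) x' ≫ σ = lift (𝟙 T) y'' := by
    change _ ≫ shearT b g₀ = _
    unfold shearT
    apply CartesianMonoidalCategory.hom_ext
    · simp
    · rw [Category.assoc, lift_snd, comp_smul, lift_snd, ← Category.assoc, lift_fst,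
        Category.id_comp, lift_snd]
      exact hg₀
  have hσx : σ.left.base x = y' := by
    rw [← hsx, ← hsy, ← hlift sx x' rfl, ← hlift sy y'' rfl]
    change (lift (𝟙 T) x' ≫ σ).left.base _ = _
    rw [hσ]
  apply hx
  have h3 : x ∈ σ.left ⁻¹ᵁ p.smoothLocus := by
    change σ.left.base x ∈ p.smoothLocus
    rw [hσx]
    exact hy'
  rw [Scheme.Hom.preimage_smoothLocus_eq, smoothLocus_congr hσp] at h3
  exact h3

end Groth.Agent.Lib.Helper24.Orbit
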