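import Mathlib
import Groth.Agent.Lib.Helper24.Orbit.Smooth
import Groth.Agent.Lib.Helper24.Orbit.RedSub

/-!
# The action of `G` on `G'` through a homomorphism, and smoothness of the reduced image
-/

set_option autoImplicit false
universe u

open CategoryTheory MonoidalCategory CartesianMonoidalCategory MonObj AlgebraicGeometry Limits

namespace Groth.Agent.Lib.Helper24.Orbit

section General

variable {S : Scheme.{u}} {G G' X : Over S} [GrpObj G] [GrpObj G']

/-- restriction of an action along a homomorphism -/
noncomputable def restrictHom (f : G ⟶ G') [IsMonHom f] (a : AlgGrp.Action G' X) :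
    AlgGrp.Action G X where
  act := (f ▷ X) ≫ a.act
  one_act := by
    rw [← comp_whiskerRight_assoc, IsMonHom.one_hom, a.one_act]
  mul_act := by
    rw [← comp_whiskerRight_assoc, IsMonHom.mul_hom, comp_whiskerRight, Category.assoc, a.mul_act]
    simp only [← tensorHom_id, ← id_tensorHom, associator_naturality_assoc]
    simp only [tensorHom_id, id_tensorHom]
    rw [MonoidalCategory.tensorHom_def', Category.assoc, ← whisker_exchange_assoc]
    simp

theorem orbitMap_restrictHom_selfAct (f : G ⟶ G') [IsMonHom f] :
    (restrictHom f (Groth.Agent.Lib.Helper4.ActShear2.selfAct G')).orbitMap η[G'] = f := by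
  unfold AlgGrp.Action.orbitMap restrictHom Groth.Agent.Lib.Helper4.ActShear2.selfAct
  simp only
  rw [← Category.assoc, lift_whiskerRight, Category.id_comp]
  have : lift f (toUnit G ≫ η[G']) ≫ μ[G'] = f * (toUnit G ≫ η[G']) := rfl
  rw [this]
  have h1 : toUnit G ≫ η[G'] = (1 : G ⟶ G') := by
    rw [Hom.one_def]
  rw [h1, _root_.mul_one]

end General

variable {k : Type u} [Field k]

/-- the image of a homomorphism from a smooth group, with its reduced structure, is smooth -/
theorem smooth_reduced_range (G G' : Over (Spec (CommRingCat.of k))) [GrpObj G] [GrpObj G']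
    [Smooth G.hom] [QuasiCompact G.hom] [LocallyOfFiniteType G'.hom] [QuasiCompact G'.hom]
    (f : G ⟶ G') [IsMonHom f] (H : Scheme.{u}) (i : H ⟶ G'.left) [IsImmersion i] [IsReduced H]
    (hH : Set.range i.base = Set.range f.left.base) : Smooth (i ≫ G'.hom) := by
  haveI : LocallyOfFiniteType G.hom := inferInstance
  let a := restrictHom f (Groth.Agent.Lib.Helper4.ActShear2.selfAct G')
  obtain ⟨Y, b, y, z, hmono, -, -, himm, hred, hrange, hlft, hqc, -, hflat, hsurj, htr⟩ :=
    exists_orbit_data G G' a η[G']
  haveI := himm
  haveI := hred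
  haveI := hlft
  have hsm : Smooth Y.hom := smooth_of_homogeneous G Y b y hflat hsurj htr
  rw [orbitMap_restrictHom_selfAct] at hrange
  obtain ⟨e, he⟩ := exists_iso_of_range_eq i z.left (hH.trans hrange.symm)
  have : i ≫ G'.hom = e.hom ≫ Y.hom := by
    rw [← he, Category.assoc, Over.w]
  rw [this]
  infer_instance

end Groth.Agent.Lib.Helper24.Orbit

namespace Groth.Agent.Lib.Helper24.Orbit

variable {k : Type u} [Field k]

/-- a surjective homomorphism from a smooth group of finite type onto a reduced group of finite
type is flat -/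
theorem flat_of_surjective_hom (G G' : Over (Spec (CommRingCat.of k))) [GrpObj G] [GrpObj G']
    [Smooth G.hom] [QuasiCompact G.hom] [LocallyOfFiniteType G'.hom] [QuasiCompact G'.hom]
    [IsReduced G'.left] (f : G ⟶ G') [IsMonHom f] [Surjective f.left] : Flat f.left := by
  haveI : LocallyOfFiniteType G.hom := inferInstance
  let a := restrictHom f (Groth.Agent.Lib.Helper4.ActShear2.selfAct G')
  obtain ⟨Y, b, y, z, hmono, -, -, himm, hred, hrange, hlft, hqc, horb, hflat, hsurj, htr⟩ :=
    exists_orbit_data G G' a η[G']
  haveI := himm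
  haveI := hred
  rw [orbitMap_restrictHom_selfAct] at hrange horb
  have hr : Set.range z.left.base = Set.range (𝟙 G'.left : G'.left ⟶ G'.left).base := by
    rw [hrange]
    have h1 : Set.range f.left.base = Set.univ := Set.range_eq_univ.2 (‹Surjective f.left›).1
    rw [h1]
    simp
  obtain ⟨e, he⟩ := exists_iso_of_range_eq z.left (𝟙 G'.left) hr
  rw [Category.comp_id] at he
  haveI : IsIso z.left := he ▸ inferInstance
  have : f.left = (b.orbitMap y).left ≫ z.left := by rw [← Over.comp_left, horb]
  rw [this]
  infer_instance

end Groth.Agent.Lib.Helper24.Orbit
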