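import Mathlib
import Groth.Agent.Lib.Helper24.Orbit.Quotient

/-!
# A group acting transitively on a connected scheme with connected stabilizer is connected
-/

set_option autoImplicit false
universe u

open CategoryTheory MonoidalCategory CartesianMonoidalCategory MonObj AlgebraicGeometry Limits

namespace Groth.Agent.Lib.Helper24.Orbit

open Groth.Agent.Lib.Helper4 Groth.Agent.Lib.Helper4.ActShear Groth.Agent.Lib.Helper4.ActShear2

section general

variable {S : Scheme.{u}} {G X H : Over S} [GrpObj G] (a : AlgGrp.Action G X)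

theorem mul_smul {T : Over S} (g h : T ⟶ G) (x : T ⟶ X) :
    smul a (g * h) x = smul a g (smul a h x) := mul_smul' a g h x

theorem inv_smul_smul'' {T : Over S} (g : T ⟶ G) (x : T ⟶ X) :
    smul a g⁻¹ (smul a g x) = x := ActShear.inv_smul_smul a g x

variable (x₀ : 𝟙_ (Over S) ⟶ X) (i : H ⟶ G) [Mono i]
  (hH : ∀ (T : Over S) (g : T ⟶ G),
    (∃ h : T ⟶ H, h ≫ i = g) ↔ g ≫ a.orbitMap x₀ = toUnit T ≫ x₀)

omit [Mono i] in
include hH in
theorem exists_translate_lift (g : 𝟙_ (Over S) ⟶ G) {T : Over S} (s : T ⟶ G)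
    (hs : s ≫ a.orbitMap x₀ = toUnit T ≫ g ≫ a.orbitMap x₀) :
    ∃ h : T ⟶ H, h ≫ i = (toUnit T ≫ g)⁻¹ * s := by
  rw [hH]
  rw [orbitMap_eq_smul, mul_smul, ← orbitMap_eq_smul a x₀ s, hs, ← Category.assoc,
    orbitMap_eq_smul a x₀ (toUnit T ≫ g), inv_smul_smul'']

include hH in
/-- the fibre of the orbit map over a translate `g · x₀` is the translate `g · H` -/
theorem isPullback_translate (g : 𝟙_ (Over S) ⟶ G) :
    IsPullback ((toUnit H ≫ g) * i) (toUnit H) (a.orbitMap x₀) (g ≫ a.orbitMap x₀) := by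
  have hi : i ≫ a.orbitMap x₀ = toUnit H ≫ x₀ := (hH H i).1 ⟨𝟙 H, Category.id_comp _⟩
  have hw : ((toUnit H ≫ g) * i) ≫ a.orbitMap x₀ = toUnit H ≫ g ≫ a.orbitMap x₀ := by
    rw [orbitMap_eq_smul, mul_smul, ← orbitMap_eq_smul a x₀ i, hi,
      ← orbitMap_eq_smul a x₀ (toUnit H ≫ g), Category.assoc]
  refine ⟨⟨hw⟩, ⟨PullbackCone.IsLimit.mk hw
    (fun s => Classical.choose (exists_translate_lift a x₀ i hH g s.fst (by
      rw [s.condition, ← Category.assoc, ← Category.assoc]
      congr 2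
      exact toUnit_unique _ _))) ?_ ?_ ?_⟩⟩
  · intro s
    have hc := Classical.choose_spec (exists_translate_lift a x₀ i hH g s.fst (by
      rw [s.condition, ← Category.assoc, ← Category.assoc]
      congr 2
      exact toUnit_unique _ _))
    rw [MonObj.comp_mul, hc, ← Category.assoc, toUnit_unique (_ ≫ toUnit H) (toUnit s.pt)]
    simp
  · intro s
    exact toUnit_unique _ _
  · intro s m hm1 hm2
    have hc := Classical.choose_spec (exists_translate_lift a x₀ i hH g s.fst (by
      rw [s.condition, ← Category.assoc, ← Category.assoc]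
      congr 2
      exact toUnit_unique _ _))
    rw [← cancel_mono i, hc, ← hm1, MonObj.comp_mul, ← Category.assoc,
      toUnit_unique (m ≫ toUnit H) (toUnit s.pt)]
    simp

end general

section field

variable {k : Type u} [Field k] [IsAlgClosed k]

/-- rational points of a scheme of finite type over an algebraically closed field lift along
surjective morphisms of finite type -/
theorem exists_rational_lift {A B : Over (Spec (CommRingCat.of k))} (m : A ⟶ B)
    [LocallyOfFiniteType m.left] [Surjective m.left] (p : 𝟙_ (Over (Spec (CommRingCat.of k))) ⟶ B) :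
    ∃ g : 𝟙_ (Over (Spec (CommRingCat.of k))) ⟶ A, g ≫ m = p := by
  obtain ⟨g₀, hg₀⟩ := exists_Kpoint_lift (K := k) m.left p.left
  have hover : g₀ ≫ A.hom = (𝟙_ (Over (Spec (CommRingCat.of k)))).hom := by
    rw [← Over.w m, ← Category.assoc, hg₀]
    exact Over.w p
  refine ⟨Over.homMk g₀ hover, ?_⟩
  ext1
  exact hg₀

theorem connectedSpace_of_connected_stabilizer (G X : Over (Spec (CommRingCat.of k))) [GrpObj G]
    [LocallyOfFiniteType G.hom] [QuasiCompact G.hom] [Smooth X.hom] [ConnectedSpace ↥X.left]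
    (a : AlgGrp.Action G X) (x₀ : 𝟙_ (Over (Spec (CommRingCat.of k))) ⟶ X)
    (hsurj : Surjective (a.orbitMap x₀).left)
    (H : Over (Spec (CommRingCat.of k))) (i : H ⟶ G) [Mono i]
    (hH : ∀ (T : Over (Spec (CommRingCat.of k))) (g : T ⟶ G),
      (∃ h : T ⟶ H, h ≫ i = g) ↔ g ≫ a.orbitMap x₀ = toUnit T ≫ x₀)
    [ConnectedSpace ↥H.left] : ConnectedSpace ↥G.left := by
  haveI := hsurj
  haveI : LocallyOfFiniteType X.hom := inferInstance
  haveI : IsReduced X.left :=
    Groth.Agent.Lib.Helper24.WeilExt.isReduced_of_smooth (R := k) X.hom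
  haveI : IsLocallyNoetherian X.left := LocallyOfFiniteType.isLocallyNoetherian X.hom
  haveI : QuasiSeparated X.hom := by
    rw [quasiSeparated_iff_quasiSeparatedSpace]
    infer_instance
  haveI : LocallyOfFiniteType (a.orbitMap x₀).left := by
    have : LocallyOfFiniteType ((a.orbitMap x₀).left ≫ X.hom) := by
      rw [Over.w (a.orbitMap x₀)]; infer_instance
    exact locallyOfFiniteType_of_comp (a.orbitMap x₀).left X.hom
  haveI : QuasiCompact (a.orbitMap x₀).left := by
    have : QuasiCompact ((a.orbitMap x₀).left ≫ X.hom) := by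
      rw [Over.w (a.orbitMap x₀)]; infer_instance
    exact QuasiCompact.of_comp (a.orbitMap x₀).left X.hom
  haveI : Nonempty G.left := nonempty_left k G
  -- transitivity on rational points
  have htr : ∀ y₁ y₂ : Over.mk (Spec.map (CommRingCat.ofHom (algebraMap k k))) ⟶ X,
      ∃ g : Over.mk (Spec.map (CommRingCat.ofHom (algebraMap k k))) ⟶ G,
        lift g y₁ ≫ a.act = y₂ := by
    have key : ∀ y' : Over.mk (Spec.map (CommRingCat.ofHom (algebraMap k k))) ⟶ X,
        ∃ g : Over.mk (Spec.map (CommRingCat.ofHom (algebraMap k k))) ⟶ G,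
          g ≫ a.orbitMap x₀ = y' := by
      intro y'
      obtain ⟨g₀, hg₀⟩ := exists_Kpoint_lift (K := k) (a.orbitMap x₀).left y'.left
      have hover : g₀ ≫ G.hom =
          (Over.mk (Spec.map (CommRingCat.ofHom (algebraMap k k)))).hom := by
        rw [← Over.w (a.orbitMap x₀), ← Category.assoc, hg₀]
        exact Over.w y'
      refine ⟨Over.homMk g₀ hover, ?_⟩
      ext1
      exact hg₀
    intro y₁ y₂
    obtain ⟨g₁, hg₁⟩ := key y₁
    obtain ⟨g₂, hg₂⟩ := key y₂
    refine ⟨g₂ * g₁⁻¹, ?_⟩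
    change smul a (g₂ * g₁⁻¹) y₁ = y₂
    rw [← hg₁, ← hg₂, orbitMap_eq_smul, orbitMap_eq_smul, ← mul_smul]
    congr 1
    simp
  obtain ⟨hflat, -⟩ := Homog.equivariant_flat_surjective k k G G X (selfAct G) a
    (a.orbitMap x₀) (orbitMap_equivariant a x₀) htr
  haveI := hflat
  haveI : LocallyOfFinitePresentation (a.orbitMap x₀).left :=
    LocallyOfFinitePresentation.iff_locallyOfFiniteType.2 inferInstance
  haveI : UniversallyOpen (a.orbitMap x₀).left := UniversallyOpen.of_flat _
  have hopen : IsOpenMap (a.orbitMap x₀).left.base := (a.orbitMap x₀).left.isOpenMap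
  -- fibres over rational points are preconnected
  have hfib : ∀ p : 𝟙_ (Over (Spec (CommRingCat.of k))) ⟶ X,
      _root_.IsPreconnected ((a.orbitMap x₀).left.base ⁻¹' Set.range p.left.base) := by
    intro p
    obtain ⟨g, hg⟩ := exists_rational_lift (a.orbitMap x₀) p
    have sq := isPullback_translate a x₀ i hH g
    rw [hg] at sq
    have sq' : IsPullback ((toUnit H ≫ g) * i).left (toUnit H).left (a.orbitMap x₀).left p.left :=
      (sq.map (Over.forget _))
    have hr : (a.orbitMap x₀).left.base ⁻¹' Set.range p.left.base =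
        Set.range ((toUnit H ≫ g) * i).left.base := by
      ext w
      constructor
      · rintro ⟨t, ht⟩
        obtain ⟨z, hz1, hz2⟩ := Scheme.Pullback.exists_preimage_pullback
          (f := (a.orbitMap x₀).left) (g := p.left) w t ht.symm
        refine ⟨sq'.isoPullback.inv.base z, ?_⟩
        rw [← Scheme.Hom.comp_apply, sq'.isoPullback_inv_fst]
        exact hz1
      · rintro ⟨z, rfl⟩
        refine ⟨(toUnit H).left.base z, ?_⟩
        change _ = (a.orbitMap x₀).left.base (((toUnit H ≫ g) * i).left.base z)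
        rw [← Scheme.Hom.comp_apply, ← Scheme.Hom.comp_apply, sq'.w]
    rw [hr]
    exact isPreconnected_range ((toUnit H ≫ g) * i).left.continuous
  -- the topological argument
  rw [connectedSpace_iff_univ]
  refine ⟨Set.univ_nonempty, ?_⟩
  intro u v hu hv _ ⟨gu, _, hgu⟩ ⟨gv, _, hgv⟩
  have hX : _root_.IsPreconnected (Set.univ : Set X.left) := isPreconnected_univ
  obtain ⟨q, -, hqu, hqv⟩ := hX _ _ (hopen u hu) (hopen v hv)
    (by
      intro q _
      obtain ⟨w, rfl⟩ := hsurj.1 q
      rcases ‹Set.univ ⊆ u ∪ v› (Set.mem_univ w) with h | h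
      · exact Or.inl ⟨w, h, rfl⟩
      · exact Or.inr ⟨w, h, rfl⟩)
    ⟨_, trivial, gu, hgu, rfl⟩ ⟨_, trivial, gv, hgv, rfl⟩
  let W : X.left.Opens := ⟨_, (hopen u hu).inter (hopen v hv)⟩
  obtain ⟨y, hy1, hy2⟩ := Homog.exists_Kpoint_mem_open (K := k) X.hom W ⟨q, hqu, hqv⟩
  have hy1' : y ≫ X.hom = (𝟙_ (Over (Spec (CommRingCat.of k)))).hom := by
    rw [hy1]
    change Spec.map (CommRingCat.ofHom (RingHom.id k)) = 𝟙 _
    exact Spec.map_id _
  let p : 𝟙_ (Over (Spec (CommRingCat.of k))) ⟶ X := Over.homMk y hy1'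
  let c : ↥(Spec (CommRingCat.of k)) := IsLocalRing.closedPoint k
  obtain ⟨⟨a₁, ha₁u, ha₁⟩, ⟨a₂, ha₂v, ha₂⟩⟩ := hy2 c
  have hF := hfib p
  obtain ⟨w, -, hwu, hwv⟩ := hF u v hu hv (fun w _ => ‹Set.univ ⊆ u ∪ v› (Set.mem_univ w))
    ⟨a₁, ⟨c, ha₁.symm⟩, ha₁u⟩ ⟨a₂, ⟨c, ha₂.symm⟩, ha₂v⟩
  exact ⟨w, trivial, hwu, hwv⟩

end field

end Groth.Agent.Lib.Helper24.Orbit
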