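import Mathlib
import Groth.Agent.Lib.Helper24.Orbit.LocallyClosed
import Groth.Agent.Lib.Helper24.Orbit.HomAction
import Groth.Agent.Lib.Helper24.Lang.Main

/-!
# A dominant quasi-compact homomorphism of locally algebraic groups is surjective
-/

set_option autoImplicit false
universe u

open CategoryTheory MonoidalCategory CartesianMonoidalCategory MonObj AlgebraicGeometry Limits

namespace Groth.Agent.Lib.Helper24.Orbit

open Groth.Agent.Lib.Helper4 Groth.Agent.Lib.Helper4.ActShear Groth.Agent.Lib.Helper4.ActShear2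

variable {k : Type u} [Field k]

section

variable {G X : Over (Spec (CommRingCat.of k))} [GrpObj G] (a : AlgGrp.Action G X)

/-- the boundary of an orbit is closed (version assuming only that the orbit map is of finite
type) -/
theorem isClosed_closure_diff_range_orbitMap' [LocallyOfFiniteType X.hom] [QuasiSeparated X.hom]
    (x : 𝟙_ (Over (Spec (CommRingCat.of k))) ⟶ X) [LocallyOfFiniteType (a.orbitMap x).left]
    [QuasiCompact (a.orbitMap x).left] :
    IsClosed (closure (Set.range (a.orbitMap x).left.base) \ Set.range (a.orbitMap x).left.base) := by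
  set E := Set.range (a.orbitMap x).left.base with hE
  have hEst : IsStable a E := isStable_range_orbitMap a x
  have hBst : IsStable a (closure E \ E) := (hEst.closure' a).diff hEst
  have hDst : IsStable a (closure (closure E \ E) ∩ E) := ((hBst.closure' a)).inter hEst
  haveI : Nonempty G.left := nonempty_left k G
  obtain ⟨O, ⟨p, hpO, hpC⟩, hOE⟩ := exists_open_inter_closure_subset_range (a.orbitMap x).left
  have hempty : closure (closure E \ E) ∩ E = ∅ := by
    by_contra hne
    rw [← Ne, ← Set.nonempty_iff_ne_empty] at hne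
    have hsub : E ⊆ closure (closure E \ E) ∩ E :=
      hDst.range_orbitMap_subset a x (by
        obtain ⟨e, he⟩ := hne
        exact ⟨e, he, he.2⟩)
    have hC : closure E ⊆ closure (closure E \ E) :=
      closure_minimal (fun e he => (hsub he).1) isClosed_closure
    have hp : p ∈ closure (closure E \ E) := hC hpC
    rw [mem_closure_iff] at hp
    obtain ⟨b, hbO, hbC, hbE⟩ := hp O O.2 hpO
    exact hbE (hOE ⟨hbO, hbC⟩)
  have : closure (closure E \ E) ⊆ closure E \ E := by
    intro z hz
    refine ⟨closure_mono Set.sdiff_subset hz |> fun h => by rwa [closure_closure] at h, ?_⟩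
    intro hzE
    have : z ∈ closure (closure E \ E) ∩ E := ⟨hz, hzE⟩
    rw [hempty] at this
    exact this
  exact closure_subset_iff_isClosed.1 this

end

/-- the image in `X` of the part of an open subset of `X × Y` lying over a point of `Y` is open -/
theorem isOpen_fst_image_fibre (X Y : Over (Spec (CommRingCat.of k))) (O : Set (X ⊗ Y).left)
    (hO : IsOpen O) (y : Y.left) :
    IsOpen ((fst X Y).left '' (O ∩ (snd X Y).left ⁻¹' {y})) := by
  let sL : (X ⊗ Y).left ⟶ Y.left := (snd X Y).left
  let fL : (X ⊗ Y).left ⟶ X.left := (fst X Y).left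
  let yκ := Y.left.fromSpecResidueField y
  let u := pullback.fst sL yκ
  let v := pullback.snd sL yκ
  have hu : Set.range u = sL ⁻¹' {y} := by
    rw [Scheme.Pullback.range_fst, Scheme.range_fromSpecResidueField]
  have t : IsPullback u v sL yκ := IsPullback.of_hasPullback _ _
  have r : IsPullback fL sL X.hom Y.hom := IsPullback.of_hasPullback X.hom Y.hom
  have big : IsPullback (u ≫ fL) v X.hom (yκ ≫ Y.hom) := t.paste_horiz r
  haveI : UniversallyOpen (yκ ≫ Y.hom) := inferInstance
  haveI : UniversallyOpen (u ≫ fL) :=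
    MorphismProperty.of_isPullback (P := @UniversallyOpen) big.flip inferInstance
  have : fL '' (O ∩ sL ⁻¹' {y}) = (u ≫ fL) '' (u ⁻¹' O) := by
    rw [← hu, ← Set.image_preimage_eq_inter_range, ← Set.image_comp]
    rfl
  show IsOpen (fL '' (O ∩ sL ⁻¹' {y}))
  rw [this]
  exact (u ≫ fL).isOpenMap _ (hO.preimage u.continuous)

section Hom

open Groth.Agent.Lib.Helper24.Lang

variable (H K : Over (Spec (CommRingCat.of k))) [GrpObj H] [GrpObj K]
  [LocallyOfFiniteType H.hom] [LocallyOfFiniteType K.hom] (g : H ⟶ K) [IsMonHom g]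

/-- the range of a homomorphism is closed under `x, y ↦ x y⁻¹`, on the level of points -/
theorem mem_range_of_div_mem_range (w : (K ⊗ K).left)
    (h1 : (fst K K).left w ∈ Set.range g.left)
    (h2 : ((snd K K)⁻¹ * fst K K : K ⊗ K ⟶ K).left w ∈ Set.range g.left) :
    (snd K K).left w ∈ Set.range g.left := by
  obtain ⟨a₁, ha₁⟩ := h1
  obtain ⟨a₂, ha₂⟩ := h2
  obtain ⟨T₁, pw, ph₁, t₁, e₁, ht₁, -⟩ := exists_over_of_eq (fst K K) g w a₁ ha₁.symm
  have hpt : (pw ≫ ((snd K K)⁻¹ * fst K K)).left t₁ = g.left a₂ := by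
    rw [Over.comp_left, Scheme.Hom.comp_apply, ht₁, ha₂]
  obtain ⟨T₂, q, ph₂, t₂, e₂, ht₂, -⟩ :=
    exists_over_of_eq (pw ≫ ((snd K K)⁻¹ * fst K K)) g t₁ a₂ hpt
  have e₃ : (q ≫ pw ≫ snd K K)⁻¹ * (q ≫ pw ≫ fst K K) = ph₂ ≫ g := by
    rw [← e₂, MonObj.comp_mul, MonObj.comp_mul, GrpObj.comp_inv, GrpObj.comp_inv]
  have e₄ : q ≫ pw ≫ snd K K = ((q ≫ ph₁) * ph₂⁻¹) ≫ g := by
    rw [MonObj.mul_comp, GrpObj.inv_comp, ← e₃, Category.assoc, ← e₁]
    group
  refine ⟨((q ≫ ph₁) * ph₂⁻¹ : T₂ ⟶ H).left t₂, ?_⟩
  rw [← Scheme.Hom.comp_apply, ← Over.comp_left, ← e₄, Over.comp_left, Over.comp_left,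
    Scheme.Hom.comp_apply, Scheme.Hom.comp_apply, ht₂, ht₁]

/-- **A dominant quasi-compact homomorphism of locally algebraic groups is surjective.** -/
theorem surjective_of_dominant_hom [QuasiCompact g.left] (hd : DenseRange g.left) :
    Surjective g.left := by
  haveI : IsLocallyNoetherian K.left := LocallyOfFiniteType.isLocallyNoetherian K.hom
  haveI : QuasiSeparated K.hom := by
    rw [quasiSeparated_iff_quasiSeparatedSpace]
    infer_instance
  let a := restrictHom g (selfAct K)
  have horb : a.orbitMap η[K] = g := orbitMap_restrictHom_selfAct g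
  haveI : LocallyOfFiniteType g.left := by
    have : LocallyOfFiniteType (g.left ≫ K.hom) := by rw [Over.w g]; infer_instance
    exact locallyOfFiniteType_of_comp g.left K.hom
  haveI : LocallyOfFiniteType (a.orbitMap η[K]).left := by rw [horb]; infer_instance
  haveI : QuasiCompact (a.orbitMap η[K]).left := by rw [horb]; infer_instance
  have h1 := isClosed_closure_diff_range_orbitMap' a η[K]
  rw [horb] at h1
  have hcl : closure (Set.range g.left) = Set.univ := hd.closure_range
  -- the range is open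
  have hopen : IsOpen (Set.range g.left) := by
    rw [hcl, ← Set.compl_eq_univ_diff] at h1
    exact isClosed_compl_iff.1 h1
  -- the complement of the range is open
  let Θ : K ⊗ K ⟶ K := (snd K K)⁻¹ * fst K K
  have hO : IsOpen (Θ.left ⁻¹' Set.range g.left) := hopen.preimage Θ.left.continuous
  have hclosed : IsClosed (Set.range g.left) := by
    rw [← isOpen_compl_iff, isOpen_iff_forall_mem_open]
    intro z hz
    refine ⟨_, ?_, isOpen_fst_image_fibre K K _ hO z, ?_⟩
    · rintro _ ⟨w, ⟨hw1, hw2⟩, rfl⟩ hx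
      rw [Set.mem_preimage, Set.mem_singleton_iff] at hw2
      exact hz (hw2 ▸ mem_range_of_div_mem_range H K g w hx hw1)
    · refine ⟨(lift (𝟙 K) (𝟙 K)).left z, ⟨?_, ?_⟩, ?_⟩
      · show Θ.left ((lift (𝟙 K) (𝟙 K)).left z) ∈ Set.range g.left
        have e : lift (𝟙 K) (𝟙 K) ≫ Θ = toUnit K ≫ η[H] ≫ g := by
          rw [IsMonHom.one_hom]
          show lift (𝟙 K) (𝟙 K) ≫ ((snd K K)⁻¹ * fst K K) = _
          rw [MonObj.comp_mul, GrpObj.comp_inv, lift_snd, lift_fst, inv_mul_cancel, Hom.one_def]
        rw [← Scheme.Hom.comp_apply, ← Over.comp_left, e, ← Category.assoc, Over.comp_left,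
          Scheme.Hom.comp_apply]
        exact ⟨_, rfl⟩
      · show (snd K K).left ((lift (𝟙 K) (𝟙 K)).left z) = z
        rw [← Scheme.Hom.comp_apply, ← Over.comp_left, lift_snd]
        rfl
      · rw [← Scheme.Hom.comp_apply, ← Over.comp_left, lift_fst]
        rfl
  have : Set.range g.left = Set.univ := by rw [← hclosed.closure_eq, hcl]
  exact ⟨Set.range_eq_univ.1 this⟩

end Hom

end Groth.Agent.Lib.Helper24.Orbit
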