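import Mathlib
import Groth.Agent.Lib.Helper24.Orbit.ImageClosed
import Groth.Agent.Lib.Helper24.AntiAff.ImageGroup

/-!
# The scheme-theoretic image of a quasi-compact homomorphism of locally algebraic groups is a closed
subgroup onto which the homomorphism is surjective
-/

set_option autoImplicit false
universe u

open CategoryTheory MonoidalCategory CartesianMonoidalCategory MonObj AlgebraicGeometry Limits

namespace Groth.Agent.Lib.Helper24.Orbit

open Groth.Agent.Lib.Helper24.AntiAff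

variable {k : Type u} [Field k]

theorem image_hom (H G K : Over (Spec (CommRingCat.of k))) [GrpObj H] [GrpObj G]
    [LocallyOfFiniteType H.hom] [LocallyOfFiniteType G.hom]
    (f : H ⟶ G) [IsMonHom f] [QuasiCompact f.left]
    (i : K ⟶ G) [IsClosedImmersion i.left] (g : H ⟶ K) (hgi : g ≫ i = f)
    [IsSchemeTheoreticallyDominant g.left] :
    ∃ (_ : GrpObj K), IsMonHom i ∧ IsMonHom g ∧ Surjective g.left := by
  haveI : Mono i.left := inferInstance
  haveI : Mono i := Over.mono_of_mono_left i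
  haveI hqc : QuasiCompact g.left := by
    have : QuasiCompact (g.left ≫ i.left) := by rw [← Over.comp_left, hgi]; infer_instance
    exact QuasiCompact.of_comp g.left i.left
  -- the unit
  let o : 𝟙_ (Over (Spec (CommRingCat.of k))) ⟶ K := η[H] ≫ g
  have ho : o ≫ i = η[G] := by
    rw [Category.assoc, hgi, IsMonHom.one_hom]
  -- the multiplication
  obtain ⟨hd2, hq2⟩ := dominant_tensorHom g g
  obtain ⟨m₀, hm₀, -⟩ := exists_fac_of_dominant (g ⊗ₘ g).left ((i ⊗ₘ i) ≫ μ[G]).left i.left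
    (μ[H] ≫ g).left (by
      have : (g ⊗ₘ g) ≫ (i ⊗ₘ i) ≫ μ[G] = (μ[H] ≫ g) ≫ i := by
        rw [tensorHom_comp_tensorHom_assoc, hgi, Category.assoc, hgi, IsMonHom.mul_hom]
      exact congrArg (fun ψ => ψ.left) this)
  let m : K ⊗ K ⟶ K := Over.homMk m₀ (by
    have e : m₀ ≫ K.hom = (m₀ ≫ i.left) ≫ G.hom := by rw [Category.assoc, Over.w]
    rw [e, hm₀]
    exact Over.w ((i ⊗ₘ i) ≫ μ[G]))
  have hm : m ≫ i = (i ⊗ₘ i) ≫ μ[G] := by
    apply Over.OverMorphism.ext
    exact hm₀
  -- the inverse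
  obtain ⟨v₀, hv₀, -⟩ := exists_fac_of_dominant g.left (i ≫ ι[G]).left i.left (ι[H] ≫ g).left (by
      have : g ≫ i ≫ ι[G] = (ι[H] ≫ g) ≫ i := by
        rw [← Category.assoc, hgi, Category.assoc, hgi, GrpObj.inv_hom]
      exact congrArg (fun ψ => ψ.left) this)
  let v : K ⟶ K := Over.homMk v₀ (by
    have e : v₀ ≫ K.hom = (v₀ ≫ i.left) ≫ G.hom := by rw [Category.assoc, Over.w]
    rw [e, hv₀]
    exact Over.w (i ≫ ι[G]))
  have hv : v ≫ i = i ≫ ι[G] := by
    apply Over.OverMorphism.ext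
    exact hv₀
  letI inst : GrpObj K := grpObjOfMono i o ho m hm v hv
  haveI hi : IsMonHom i := ⟨ho, hm⟩
  haveI hg : IsMonHom g := by
    refine ⟨rfl, ?_⟩
    rw [← cancel_mono i, Category.assoc, hgi, Category.assoc]
    show μ[H] ≫ f = (g ⊗ₘ g) ≫ m ≫ i
    rw [hm, tensorHom_comp_tensorHom_assoc, hgi, IsMonHom.mul_hom]
  haveI : LocallyOfFiniteType K.hom := by
    have : K.hom = i.left ≫ G.hom := (Over.w i).symm
    rw [this]
    infer_instance
  refine ⟨inst, hi, hg, ?_⟩
  have hdense : DenseRange g.left := (inferInstance : IsDominant g.left).1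
  exact surjective_of_dominant_hom H K g hdense

end Groth.Agent.Lib.Helper24.Orbit
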