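import Mathlib
import Groth.Agent.Lib.Helper24.Orbit.Connected
import Groth.Agent.Lib.Helper3.SubGrpMono

/-!
# The stabilizer of a rational point is a subgroup scheme
-/

set_option autoImplicit false
universe u

open CategoryTheory MonoidalCategory CartesianMonoidalCategory MonObj AlgebraicGeometry Limits

namespace Groth.Agent.Lib.Helper24.Orbit

open Groth.Agent.Lib.Helper4 Groth.Agent.Lib.Helper4.ActShear Groth.Agent.Lib.Helper4.ActShear2

variable {S : Scheme.{u}} {G X Go : Over S} [GrpObj G] (a : AlgGrp.Action G X)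
  (o : 𝟙_ (Over S) ⟶ X) (i : Go ⟶ G) (hGo : IsPullback i (toUnit Go) (a.orbitMap o) o)

include hGo in
theorem mono_of_stabilizer : Mono i := by
  constructor
  intro T u v huv
  exact hGo.hom_ext huv (toUnit_unique _ _)

include hGo in
theorem stabilizer_smul {T : Over S} (n : T ⟶ Go) :
    smul a (n ≫ i) (toUnit T ≫ o) = toUnit T ≫ o := by
  rw [← orbitMap_eq_smul, Category.assoc, hGo.w, ← Category.assoc]
  congr 1
  exact toUnit_unique _ _

include hGo in
/-- the stabilizer of a rational point is a subgroup -/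
theorem exists_grpObj_stabilizer : ∃ _ : GrpObj Go, IsMonHom i := by
  haveI := mono_of_stabilizer a o i hGo
  have hlift : ∀ {T : Over S} (g : T ⟶ G), smul a g (toUnit T ≫ o) = toUnit T ≫ o →
      ∃ n : T ⟶ Go, n ≫ i = g := by
    intro T g hg
    refine ⟨hGo.lift g (toUnit T) ?_, hGo.lift_fst _ _ _⟩
    rw [orbitMap_eq_smul, hg]
  obtain ⟨e, he⟩ := hlift (η[G]) (by
    have := one_smul' a (toUnit (𝟙_ (Over S)) ≫ o)
    rwa [toUnit_unique (toUnit (𝟙_ (Over S))) (𝟙 _), Category.id_comp] at this)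
  obtain ⟨m, hm⟩ := hlift ((i ⊗ₘ i) ≫ μ[G]) (by
    have h1 : (i ⊗ₘ i) ≫ μ[G] = (fst Go Go ≫ i) * (snd Go Go ≫ i) := by
      change _ = lift (fst Go Go ≫ i) (snd Go Go ≫ i) ≫ μ[G]
      congr 1
    rw [h1, mul_smul, stabilizer_smul a o i hGo, stabilizer_smul a o i hGo])
  obtain ⟨v, hv⟩ := hlift (i ≫ ι[G]) (by
    have h1 : i ≫ ι[G] = (i : Go ⟶ G)⁻¹ := rfl
    have h2 := stabilizer_smul a o i hGo (𝟙 Go)
    rw [Category.id_comp] at h2
    rw [h1]
    nth_rw 1 [← h2]
    exact inv_smul_smul'' a i _)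
  exact Groth.Agent.Lib.Helper3.SubGrp.exists_grpObj_of_mono i e he m hm v hv

end Groth.Agent.Lib.Helper24.Orbit
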