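import Mathlib
import Groth.Agent.Lib.Helper24.Orbit.Stabilizer
import Groth.Agent.S0353

/-!
# In characteristic zero the orbit map onto a homogeneous space is smooth
-/

set_option autoImplicit false
universe u

open CategoryTheory MonoidalCategory CartesianMonoidalCategory MonObj AlgebraicGeometry Limits

namespace Groth.Agent.Lib.Helper24.Orbit

open Groth.Agent.Lib.Helper4 Groth.Agent.Lib.Helper4.ActShear Groth.Agent.Lib.Helper4.ActShear2

variable {k : Type u} [Field k]

/-- the orbit map is smooth as soon as it is faithfully flat and the stabilizer is smooth -/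
theorem smooth_orbitMap_of_smooth_stabilizer (G X Go : Over (Spec (CommRingCat.of k))) [GrpObj G]
    (a : AlgGrp.Action G X) (x : 𝟙_ (Over (Spec (CommRingCat.of k))) ⟶ X)
    (i : Go ⟶ G) (hGo : IsPullback i (toUnit Go) (a.orbitMap x) x) [Smooth Go.hom]
    [Flat (a.orbitMap x).left] [Surjective (a.orbitMap x).left] [QuasiCompact (a.orbitMap x).left] :
    Smooth (a.orbitMap x).left := by
  have sq := QuotUniv.isPullback_of_stabilizer a x i hGo
  have sq' : IsPullback (fst G Go).left ((G ◁ i) ≫ μ[G]).left (a.orbitMap x).left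
      (a.orbitMap x).left := sq.map (Over.forget _)
  have h1 : Smooth (fst G Go).left :=
    inferInstanceAs (Smooth (pullback.fst G.hom Go.hom))
  exact MorphismProperty.of_isPullback_of_descendsAlong (P := @Smooth)
    (Q := @Surjective ⊓ @Flat ⊓ @QuasiCompact) sq' ⟨⟨inferInstance, inferInstance⟩, inferInstance⟩ h1

theorem smooth_orbitMap_charZero [IsAlgClosed k] [CharZero k]
    (G X : Over (Spec (CommRingCat.of k))) [GrpObj G] (a : AlgGrp.Action G X)
    [LocallyOfFiniteType G.hom] [QuasiCompact G.hom]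
    [IsReduced X.left] [LocallyOfFiniteType X.hom]
    (htrans : ∀ x x' : 𝟙_ (Over (Spec (CommRingCat.of k))) ⟶ X,
      ∃ σ : 𝟙_ (Over (Spec (CommRingCat.of k))) ⟶ G, lift σ x ≫ a.act = x')
    (x : 𝟙_ (Over (Spec (CommRingCat.of k))) ⟶ X) :
    Smooth (a.orbitMap x).left := by
  haveI : IsLocallyNoetherian X.left := LocallyOfFiniteType.isLocallyNoetherian X.hom
  haveI : QuasiSeparated X.hom := by
    rw [quasiSeparated_iff_quasiSeparatedSpace]
    infer_instance
  haveI : LocallyOfFiniteType (a.orbitMap x).left := by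
    have : LocallyOfFiniteType ((a.orbitMap x).left ≫ X.hom) := by
      rw [Over.w (a.orbitMap x)]; infer_instance
    exact locallyOfFiniteType_of_comp (a.orbitMap x).left X.hom
  haveI : QuasiCompact (a.orbitMap x).left := by
    have : QuasiCompact ((a.orbitMap x).left ≫ X.hom) := by
      rw [Over.w (a.orbitMap x)]; infer_instance
    exact QuasiCompact.of_comp (a.orbitMap x).left X.hom
  haveI : Nonempty G.left := nonempty_left k G
  -- transitivity in the form needed
  let T₀ : Over (Spec (CommRingCat.of k)) := Over.mk (Spec.map (CommRingCat.ofHom (algebraMap k k)))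
  have hT₀ : T₀.hom = 𝟙 _ := by
    change Spec.map (CommRingCat.ofHom (RingHom.id k)) = 𝟙 _
    exact Spec.map_id _
  let e : T₀ ≅ 𝟙_ (Over (Spec (CommRingCat.of k))) := Over.isoMk (Iso.refl _) (by
    rw [Iso.refl_hom, Category.id_comp, hT₀]; rfl)
  have htr : ∀ y₁ y₂ : T₀ ⟶ X, ∃ g : T₀ ⟶ G, lift g y₁ ≫ a.act = y₂ := by
    intro y₁ y₂
    obtain ⟨σ, hσ⟩ := htrans (e.inv ≫ y₁) (e.inv ≫ y₂)
    refine ⟨e.hom ≫ σ, ?_⟩
    have h1 : lift (e.hom ≫ σ) y₁ = e.hom ≫ lift σ (e.inv ≫ y₁) := by
      rw [comp_lift, Iso.hom_inv_id_assoc]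
    rw [h1, Category.assoc, hσ, Iso.hom_inv_id_assoc]
  obtain ⟨hflat, hsurj⟩ := Homog.equivariant_flat_surjective k k G G X (selfAct G) a
    (a.orbitMap x) (orbitMap_equivariant a x) htr
  haveI := hflat
  haveI := hsurj
  -- the stabilizer
  let Go : Over (Spec (CommRingCat.of k)) := Limits.pullback (a.orbitMap x) x
  let i : Go ⟶ G := pullback.fst (a.orbitMap x) x
  have hGo : IsPullback i (toUnit Go) (a.orbitMap x) x := by
    have := IsPullback.of_hasPullback (a.orbitMap x) x
    rwa [toUnit_unique (pullback.snd (a.orbitMap x) x) (toUnit Go)] at this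
  obtain ⟨hgrp, -⟩ := exists_grpObj_stabilizer a x i hGo
  have hGo' : IsPullback i.left (toUnit Go).left (a.orbitMap x).left x.left :=
    hGo.map (Over.forget _)
  haveI : LocallyOfFiniteType x.left := by
    have : LocallyOfFiniteType (x.left ≫ X.hom) := by
      rw [Over.w x]
      exact inferInstanceAs (LocallyOfFiniteType (𝟙 (Spec (CommRingCat.of k))))
    exact locallyOfFiniteType_of_comp x.left X.hom
  haveI : LocallyOfFiniteType i.left :=
    MorphismProperty.of_isPullback (P := @LocallyOfFiniteType) hGo'.flip inferInstance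
  haveI : LocallyOfFiniteType Go.hom := by
    rw [← Over.w i]
    infer_instance
  haveI : Smooth Go.hom := Groth.Agent.S0353.result k Go
  exact smooth_orbitMap_of_smooth_stabilizer G X Go a x i hGo

end Groth.Agent.Lib.Helper24.Orbit
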